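import Groth.Agent.PCohLib.Apps

/-!
Strictly pseudo-coherent resolutions.
-/

set_option autoImplicit false
set_option linter.style.haveILetI false
set_option linter.unusedSectionVars false
set_option backward.isDefEq.respectTransparency false

open CategoryTheory CategoryTheory.Limits CochainComplex HomologicalComplex
open CategoryTheory.Pretriangulated DerivedCategory

universe w v u

namespace Groth.Agent.PCohLib

variable {C : Type u} [Category.{v} C] [Abelian C] [HasDerivedCategory.{w} C] {P : ObjectProperty C}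
  [P.IsClosedUnderIsomorphisms] [P.ContainsZero]

/-- A stage of the construction of a resolution. -/
structure Stage (P : ObjectProperty C) (F : CochainComplex C ℤ) (m : ℤ) where
  X : CochainComplex C ℤ
  u : X ⟶ F
  hP : PCoh.IsStrictPCAll P X
  hx : ExactGE u m

variable (hsum : ∀ X Y : C, P X → P Y → P (X ⨯ Y)) (hql : PCoh.IsQuasiLiftable P)

omit [HasDerivedCategory.{w} C] in
include hsum hql in
lemma Stage.exists_next {F : CochainComplex C ℤ} (hF : ∀ n, ConeFT P n F) {m : ℤ} (s : Stage P F m) (m' : ℤ)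
    (hm : m' + 1 = m) :
    ∃ (t : Stage P F m') (v : s.X ⟶ t.X), v ≫ t.u = s.u ∧ (∀ i, Mono (v.f i)) ∧
      (∀ i, i ≠ m' → IsIso (v.f i)) := by
  subst hm
  obtain ⟨X', v, u', h, hmv, hi, -, hx, hP⟩ := exists_step hsum hql m' s.u s.hx
    (hF m' s.X s.u m' le_rfl ⟨s.hP.1, fun i _ => s.hP.2 i⟩ s.hx)
  refine ⟨⟨X', u', ⟨?_, fun i => hP i (s.hP.2 i)⟩, hx⟩, v, h, hmv, hi⟩
  obtain ⟨b, hb⟩ := s.hP.1
  refine ⟨max b m', fun i hlt => ?_⟩
  haveI := hi i (by omega)
  exact (hb i (by omega)).of_iso (asIso (v.f i)).symm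

omit [HasDerivedCategory.{w} C] in
include hsum hql in
/-- Factorisation through a strictly pseudo-coherent complex. -/
theorem exists_all {F : CochainComplex C ℤ} (hF : ∀ n, ConeFT P n F) (n : ℤ) {E : CochainComplex C ℤ}
    (u : E ⟶ F) (hE : PCoh.IsStrictPCAll P E) (hx : ExactGE u n) :
    ∃ (E' : CochainComplex C ℤ) (v : E ⟶ E') (u' : E' ⟶ F), v ≫ u' = u ∧ PCoh.IsStrictPCAll P E' ∧ QuasiIso u' ∧
      (∀ j : ℤ, Mono (v.f j)) ∧ (∀ j : ℤ, n ≤ j → IsIso (v.f j)) := by
  choose nxt vv hv₁ hv₂ hv₃ using fun (m : ℤ) (s : Stage P F m) (m' : ℤ) (hm : m' + 1 = m) =>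
    Stage.exists_next hsum hql hF s m' hm
  let st : (k : ℕ) → Stage P F (n - (k : ℤ)) := fun k => Nat.rec (motive := fun k => Stage P F (n - (k : ℤ)))
    ⟨E, u, hE, by simpa using hx⟩ (fun k s => nxt _ s (n - ((k + 1 : ℕ) : ℤ)) (by omega)) k
  let step : ∀ k, (st k).X ⟶ (st (k + 1)).X := fun k => vv _ (st k) (n - ((k + 1 : ℕ) : ℤ)) (by omega)
  have hu : ∀ k, step k ≫ (st (k + 1)).u = (st k).u := fun k => hv₁ _ (st k) _ _
  have hm : ∀ k i, Mono ((step k).f i) := fun k => hv₂ _ (st k) _ _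
  have hiso : ∀ k i, i ≠ n - ((k + 1 : ℕ) : ℤ) → IsIso ((step k).f i) := fun k => hv₃ _ (st k) _ _
  let S : ℕ ⥤ CochainComplex C ℤ := Functor.ofSequence step
  have hmapm : ∀ i k (h : 0 ≤ k), Mono ((S.map (homOfLE h)).f i) := by
    intro i k h
    induction k with
    | zero =>
      rw [show homOfLE h = 𝟙 (0 : ℕ) from rfl, CategoryTheory.Functor.map_id, HomologicalComplex.id_f]
      infer_instance
    | succ k ih =>
      haveI := ih (Nat.zero_le k)
      haveI := hm k i
      rw [show homOfLE h = homOfLE (Nat.zero_le k) ≫ homOfLE (Nat.le_add_right k 1) from rfl, Functor.map_comp,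
        HomologicalComplex.comp_f, Functor.ofSequence_map_homOfLE_succ]
      infer_instance
  have hmapi : ∀ i k l (h : k ≤ l), (n - i).toNat ≤ k → IsIso ((S.map (homOfLE h)).f i) := by
    intro i k l h hk
    induction l with
    | zero =>
      obtain rfl : k = 0 := by omega
      rw [show homOfLE h = 𝟙 (0 : ℕ) from rfl, CategoryTheory.Functor.map_id, HomologicalComplex.id_f]
      infer_instance
    | succ l ih =>
      rcases Nat.eq_or_lt_of_le h with rfl | hlt
      · rw [show homOfLE h = 𝟙 (l + 1 : ℕ) from rfl, CategoryTheory.Functor.map_id, HomologicalComplex.id_f]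
        infer_instance
      · haveI := ih (Nat.le_of_lt_succ hlt)
        haveI := hiso l i (by omega)
        rw [show homOfLE h = homOfLE (Nat.le_of_lt_succ hlt) ≫ homOfLE (Nat.le_add_right l 1) from rfl,
          Functor.map_comp, HomologicalComplex.comp_f, Functor.ofSequence_map_homOfLE_succ]
        infer_instance
  have hev : ∀ i, (S ⋙ HomologicalComplex.eval C (ComplexShape.up ℤ) i).IsEventuallyConstantFrom (n - i).toNat := by
    intro i j f
    exact hmapi i _ j (leOfHom f) le_rfl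
  haveI : ∀ i, HasColimit (S ⋙ HomologicalComplex.eval C (ComplexShape.up ℤ) i) := fun i => (hev i).hasColimit
  let c : Cocone S :=
    { pt := F
      ι := NatTrans.ofSequence (fun k => (st k).u) (fun k => by
        rw [Functor.ofSequence_map_homOfLE_succ, Functor.const_obj_map]
        exact (hu k).trans (Category.comp_id _).symm) }
  have hι : ∀ i l, (n - i).toNat ≤ l → IsIso ((colimit.ι S l).f i) := fun i l hl =>
    (hev i).isIso_ι_of_isColimit' (isColimitOfPreserves (HomologicalComplex.eval C (ComplexShape.up ℤ) i)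
      (colimit.isColimit S)) l (homOfLE hl)
  refine ⟨colimit S, colimit.ι S 0, colimit.desc S c, colimit.ι_desc c 0, ⟨?_, fun i => ?_⟩, ?_, fun i => ?_, fun i hi => ?_⟩
  · obtain ⟨b, hb⟩ := hE.1
    refine ⟨max b n, fun i hlt => ?_⟩
    haveI := hι i 0 (by omega)
    exact (hb i (by omega)).of_iso (asIso ((colimit.ι S 0).f i)).symm
  · haveI := hι i (n - i).toNat le_rfl
    exact P.prop_of_iso (asIso ((colimit.ι S (n - i).toNat).f i)) ((st (n - i).toNat).hP.2 i)
  · rw [quasiIso_iff]
    intro i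
    let l := (n - i).toNat + 2
    haveI := hι (i - 1) l (by omega)
    haveI := hι i l (by omega)
    haveI := hι (i + 1) l (by omega)
    haveI : QuasiIsoAt (colimit.ι S l) i := by
      rw [quasiIsoAt_iff' _ (i - 1) i (i + 1) (by simp) (by simp)]
      haveI : Epi ((HomologicalComplex.shortComplexFunctor' C (ComplexShape.up ℤ) (i - 1) i (i + 1)).map (colimit.ι S l)).τ₁ :=
        inferInstanceAs (Epi ((colimit.ι S l).f (i - 1)))
      haveI : IsIso ((HomologicalComplex.shortComplexFunctor' C (ComplexShape.up ℤ) (i - 1) i (i + 1)).map (colimit.ι S l)).τ₂ :=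
        inferInstanceAs (IsIso ((colimit.ι S l).f i))
      haveI : Mono ((HomologicalComplex.shortComplexFunctor' C (ComplexShape.up ℤ) (i - 1) i (i + 1)).map (colimit.ι S l)).τ₃ :=
        inferInstanceAs (Mono ((colimit.ι S l).f (i + 1)))
      exact ShortComplex.quasiIso_of_epi_of_isIso_of_mono _
    haveI : QuasiIsoAt (colimit.ι S l ≫ colimit.desc S c) i := by
      rw [colimit.ι_desc, quasiIsoAt_iff_isIso_homologyMap]
      exact ((exactGE_iff (st l).u _).mp (st l).hx).1 i (by omega)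
    exact quasiIsoAt_of_comp_left (colimit.ι S l) _ i
  · haveI := hmapm i (n - i).toNat (Nat.zero_le _)
    haveI := hι i (n - i).toNat le_rfl
    rw [← colimit.w S (homOfLE (Nat.zero_le (n - i).toNat)), HomologicalComplex.comp_f]
    infer_instance
  · exact hι i 0 (by omega)

include hsum hql in
/-- Strictly pseudo-coherent resolution. -/
theorem exists_resolution (hqs : PCoh.IsQuasiStableUnderKernels P) (m : ℤ) {Y : CochainComplex C ℤ}
    (hY : PCoh.IsPC P (DerivedCategory.Q.obj Y)) (hac : ∀ i : ℤ, m ≤ i → Y.ExactAt i) :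
    ∃ (E : CochainComplex C ℤ) (g : E ⟶ Y), PCoh.IsStrictPCAll P E ∧ (∀ i : ℤ, m ≤ i → IsZero (E.X i)) ∧ QuasiIso g := by
  let Z : CochainComplex C ℤ := HomologicalComplex.zero
  have hZ : ∀ i, IsZero (Z.X i) := fun i =>
    (HomologicalComplex.eval C (ComplexShape.up ℤ) i).map_isZero HomologicalComplex.isZero_zero
  obtain ⟨E, v, u, -, hE, hq, -, hi⟩ := exists_all hsum hql (fun n => coneFT_of_pcn hsum hqs hql (hY n)) m
    (0 : Z ⟶ Y) ⟨⟨0, fun i _ => hZ i⟩, fun i => P.prop_of_isZero (hZ i)⟩ (exactGE_of_zero _ _ hZ hac)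
  refine ⟨E, u, hE, fun i him => ?_, hq⟩
  haveI := hi i him
  exact (hZ i).of_iso (asIso (v.f i)).symm

include hsum hql in
/-- Strictly pseudo-coherent replacement of the source of a quasi-isomorphism. -/
theorem exists_replace_all (hqs : PCoh.IsQuasiStableUnderKernels P) {X E : CochainComplex C ℤ}
    (hE : PCoh.IsStrictPCAll P E) (s : X ⟶ E) [QuasiIso s] :
    ∃ (X' : CochainComplex C ℤ) (v : X' ⟶ X), PCoh.IsStrictPCAll P X' ∧ QuasiIso v := by
  obtain ⟨b, hb⟩ := hE.1
  obtain ⟨X', v, hX', -, hv⟩ := exists_resolution hsum hql hqs (b + 1) (Y := X)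
    (fun n => ⟨E, ⟨hE.1, fun i _ => hE.2 i⟩, ⟨(asIso (DerivedCategory.Q.map s)).symm⟩⟩) (fun i hi => by
      rw [exactAt_iff_isZero_homology]
      exact ((exactAt_iff_isZero_homology _ _).mp (exactAt_of_isZero (hb i (by omega)))).of_iso
        (asIso (homologyMap s i)))
  exact ⟨X', v, hX', hv⟩

include hsum hql in
theorem exists_roof_all (hqs : PCoh.IsQuasiStableUnderKernels P) {E E' : CochainComplex C ℤ}
    (hE : PCoh.IsStrictPCAll P E) (α : DerivedCategory.Q.obj E ⟶ DerivedCategory.Q.obj E') :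
    ∃ (E'' : CochainComplex C ℤ) (s : E'' ⟶ E) (f : E'' ⟶ E'), PCoh.IsStrictPCAll P E'' ∧ QuasiIso s ∧
      DerivedCategory.Q.map s ≫ α = DerivedCategory.Q.map f := by
  obtain ⟨X, s, hs, g, rfl⟩ := DerivedCategory.right_fac α
  haveI := (DerivedCategory.isIso_Q_map_iff_quasiIso C s).mp hs
  obtain ⟨X', v, hX', hv⟩ := exists_replace_all hsum hql hqs hE s
  refine ⟨X', v ≫ s, v ≫ g, hX', inferInstance, ?_⟩
  rw [Functor.map_comp, Functor.map_comp, Category.assoc, IsIso.hom_inv_id_assoc]

include hsum hql in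
theorem exists_homotopic (hqs : PCoh.IsQuasiStableUnderKernels P) {E E' : CochainComplex C ℤ}
    (hE : PCoh.IsStrictPCAll P E) (f g : E ⟶ E') (hfg : DerivedCategory.Q.map f = DerivedCategory.Q.map g) :
    ∃ (E'' : CochainComplex C ℤ) (s : E'' ⟶ E), PCoh.IsStrictPCAll P E'' ∧ QuasiIso s ∧
      Nonempty (Homotopy (s ≫ f) (s ≫ g)) := by
  have h : DerivedCategory.Qh.map ((HomotopyCategory.quotient C (ComplexShape.up ℤ)).map f) =
      DerivedCategory.Qh.map ((HomotopyCategory.quotient C (ComplexShape.up ℤ)).map g) := by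
    rw [← cancel_mono ((DerivedCategory.quotientCompQhIso C).hom.app E'),
      DerivedCategory.quotientCompQhIso_hom_naturality, DerivedCategory.quotientCompQhIso_hom_naturality, hfg]
  obtain ⟨X, t, ht, heq⟩ := (MorphismProperty.map_eq_iff_precomp DerivedCategory.Qh
    (HomotopyCategory.quasiIso C (ComplexShape.up ℤ)) _ _).mp h
  obtain ⟨X, rfl⟩ := HomotopyCategory.quotient_obj_surjective X
  obtain ⟨t, rfl⟩ := (HomotopyCategory.quotient _ _).map_surjective t
  rw [← DerivedCategory.isIso_Qh_map_iff] at ht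
  haveI : QuasiIso t := (DerivedCategory.isIso_Q_map_iff_quasiIso C t).mp
    ((NatIso.isIso_map_iff (DerivedCategory.quotientCompQhIso C) t).mp ht)
  obtain ⟨X', v, hX', hv⟩ := exists_replace_all hsum hql hqs hE t
  refine ⟨X', v ≫ t, hX', inferInstance, ?_⟩
  rw [← Functor.map_comp, ← Functor.map_comp] at heq
  rw [Category.assoc, Category.assoc]
  exact ⟨(HomotopyCategory.homotopyOfEq _ _ heq).compLeft v⟩

end Groth.Agent.PCohLib
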