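import Groth.Agent.PCohLib.Induct

/-!
Consequences: truncations, intermediate classes, coherence, resolutions.
-/

set_option autoImplicit false
set_option linter.style.haveILetI false
set_option linter.unusedSectionVars false
set_option backward.isDefEq.respectTransparency false

open CategoryTheory CategoryTheory.Limits CochainComplex HomologicalComplex
open CategoryTheory.Pretriangulated DerivedCategory

universe w v u

namespace Groth.Agent.PCohLib

variable {C : Type u} [Category.{v} C] [Abelian C] [HasDerivedCategory.{w} C] {P : ObjectProperty C}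
  [P.IsClosedUnderIsomorphisms] [P.ContainsZero]
  (hsum : ∀ X Y : C, P X → P Y → P (X ⨯ Y)) (hqs : PCoh.IsQuasiStableUnderKernels P) (hql : PCoh.IsQuasiLiftable P)

local notation "H" => DerivedCategory.homologyFunctor C
local notation "sF" => DerivedCategory.singleFunctor C 0

include hsum hqs hql in
/-- A bounded complex in `P` approximating a pseudo-coherent object. -/
theorem exists_bounded_approx (n : ℤ) (F : DerivedCategory C) (hF : PCn P n F) :
    ∃ (E : CochainComplex C ℤ) (a b : ℤ) (α : DerivedCategory.Q.obj E ⟶ F),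
      (∀ i : ℤ, i < a ∨ b < i → IsZero (E.X i)) ∧ (∀ i : ℤ, P (E.X i)) ∧
      (∀ i : ℤ, n < i → IsIso ((H i).map α)) ∧ Epi ((H n).map α) := by
  obtain ⟨Y, hY, ⟨e⟩⟩ := hF
  obtain ⟨b, hb⟩ := hY.1
  let Z : CochainComplex C ℤ := HomologicalComplex.zero
  have hZ : ∀ i, IsZero (Z.X i) := fun i =>
    (HomologicalComplex.eval C (ComplexShape.up ℤ) i).map_isZero HomologicalComplex.isZero_zero
  obtain ⟨E, v, u, -, hE, -, hi, hl, hx⟩ := exists_down hsum hql (coneFT_of_strict hsum hqs hY) (b + 1 - n).toNat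
    (0 : Z ⟶ Y) ⟨⟨0, fun i _ => hZ i⟩, fun i _ => P.prop_of_isZero (hZ i)⟩
    (exactGE_of_zero _ _ hZ fun i hi => exactAt_of_isZero (hb i (by omega)))
  have hz : ∀ i, i < n ∨ n + (b + 1 - n).toNat ≤ i → IsZero (E.X i) := by
    rintro i (hin | hin)
    · haveI := hl i hin
      exact (hZ i).of_iso (asIso (v.f i)).symm
    · haveI := hi i hin
      exact (hZ i).of_iso (asIso (v.f i)).symm
  refine ⟨E, n, n + (b + 1 - n).toNat, DerivedCategory.Q.map u ≫ e.hom, ?_, ?_, ?_, ?_⟩
  · rintro i (hin | hin)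
    · exact hz i (Or.inl hin)
    · exact hz i (Or.inr hin.le)
  · intro i
    rcases lt_or_ge i n with hin | hin
    · exact P.prop_of_isZero (hz i (Or.inl hin))
    · exact hE.2 i hin
  · intro i hin
    have := ((exactGE_iff u n).mp hx).1 i hin
    haveI : IsIso ((H i).map (DerivedCategory.Q.map u)) :=
      (NatIso.isIso_map_iff (DerivedCategory.homologyFunctorFactors C i) u).mpr this
    rw [Functor.map_comp]; infer_instance
  · have := ((exactGE_iff u n).mp hx).2
    haveI : Epi ((H n).map (DerivedCategory.Q.map u)) :=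
      ((MorphismProperty.epimorphisms C).arrow_mk_iso_iff
        (((Functor.mapArrowFunctor _ _).mapIso (DerivedCategory.homologyFunctorFactors C n)).app (Arrow.mk u))).mpr this
    rw [Functor.map_comp]; infer_instance

include hsum hqs hql in
theorem pcn_of_bounded_approx (n : ℤ) (F : DerivedCategory C) (E : CochainComplex C ℤ) (a b : ℤ)
    (α : DerivedCategory.Q.obj E ⟶ F) (hb : ∀ i : ℤ, i < a ∨ b < i → IsZero (E.X i)) (hP : ∀ i : ℤ, P (E.X i))
    (h₁ : ∀ i : ℤ, n < i → IsIso ((H i).map α)) (h₂ : Epi ((H n).map α)) : PCn P n F := by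
  let Y := DerivedCategory.Q.objPreimage F
  let e : DerivedCategory.Q.obj Y ≅ F := DerivedCategory.Q.objObjPreimageIso F
  obtain ⟨E', s, hs, g, hE', h⟩ := exists_roof hsum hqs hql
    (⟨⟨b, fun i hi => hb i (Or.inr hi)⟩, fun i _ => hP i⟩ : PCoh.IsStrictPC P n E) (α ≫ e.inv)
  have hg : ∀ i, (H i).map (DerivedCategory.Q.map g) =
      (H i).map (DerivedCategory.Q.map s) ≫ (H i).map α ≫ (H i).map e.inv := fun i => by
    rw [← h, Functor.map_comp, Functor.map_comp]
  have hx : ExactGE g n := by
    rw [exactGE_iff]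
    refine ⟨fun i hi => (NatIso.isIso_map_iff (DerivedCategory.homologyFunctorFactors C i) g).mp ?_,
      ((MorphismProperty.epimorphisms C).arrow_mk_iso_iff
        (((Functor.mapArrowFunctor _ _).mapIso (DerivedCategory.homologyFunctorFactors C n)).app (Arrow.mk g))).mp ?_⟩
    · show IsIso ((H i).map (DerivedCategory.Q.map g))
      haveI := h₁ i hi
      rw [hg]; infer_instance
    · show Epi ((H n).map (DerivedCategory.Q.map g))
      rw [hg]; infer_instance
  obtain ⟨E'', v, u', -, hq, -, hi⟩ := exists_trunc n g hx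
  obtain ⟨⟨b', hb'⟩, hP'⟩ := hE'
  refine ⟨E'', ⟨⟨max b' n, fun i hi' => ?_⟩, fun i hi' => ?_⟩, ⟨asIso (DerivedCategory.Q.map u') ≪≫ e⟩⟩
  · haveI := hi i (by omega)
    exact (hb' i (by omega)).of_iso (asIso (v.f i)).symm
  · haveI := hi i hi'
    exact P.prop_of_iso (asIso (v.f i)) (hP' i hi')

include hsum hqs hql in
/-- Strict representatives vanishing above an acyclicity bound. -/
theorem exists_vanishing (n m : ℤ) (hnm : n < m) (F : DerivedCategory C) (hF : PCn P n F)
    (hac : ∀ i : ℤ, m ≤ i → IsZero ((H i).obj F)) :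
    ∃ E : CochainComplex C ℤ, PCoh.IsStrictPC P n E ∧ (∀ i : ℤ, m ≤ i → IsZero (E.X i)) ∧
      Nonempty (DerivedCategory.Q.obj E ≅ F) := by
  let Y := DerivedCategory.Q.objPreimage F
  let e : DerivedCategory.Q.obj Y ≅ F := DerivedCategory.Q.objObjPreimageIso F
  let Z : CochainComplex C ℤ := HomologicalComplex.zero
  have hZ : ∀ i, IsZero (Z.X i) := fun i =>
    (HomologicalComplex.eval C (ComplexShape.up ℤ) i).map_isZero HomologicalComplex.isZero_zero
  obtain ⟨E, v, u, -, hE, hq, -, hi⟩ := exists_factor hsum hql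
    (coneFT_of_pcn hsum hqs hql (pcn_of_iso e.symm hF)) m (0 : Z ⟶ Y)
    ⟨⟨0, fun i _ => hZ i⟩, fun i _ => P.prop_of_isZero (hZ i)⟩
    (exactGE_of_zero _ _ hZ fun i hi => exactAt_of_iso_Q e (hac i hi))
  refine ⟨E, hE, fun i him => ?_, ⟨asIso (DerivedCategory.Q.map u) ≪≫ e⟩⟩
  haveI := hi i him
  exact (hZ i).of_iso (asIso (v.f i)).symm

section intermediate

variable {P₁ : ObjectProperty C} [P₁.IsClosedUnderIsomorphisms] [P₁.ContainsZero]
  (hle : ∀ X : C, P X → P₁ X) (hpc : ∀ X : C, P₁ X → PCoh.IsPC P ((DerivedCategory.singleFunctor C 0).obj X))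

omit [HasDerivedCategory.{w} C] [P.IsClosedUnderIsomorphisms] [P.ContainsZero] [P₁.IsClosedUnderIsomorphisms]
  [P₁.ContainsZero] in
include hle in
lemma ft_le {X : C} (h : PCoh.IsOfFiniteType P X) : PCoh.IsOfFiniteType P₁ X := by
  obtain ⟨E, π, hE, hπ⟩ := h
  exact ⟨E, π, hle E hE, hπ⟩

include hqs hql hle hpc in
theorem quasiLiftable_intermediate : PCoh.IsQuasiLiftable P₁ := by
  intro E F u hu hF
  obtain ⟨F₀, π, hF₀, hπ⟩ := ft_of_pcn_single hqs (hpc F hF 0)
  haveI := hu; haveI := hπ
  obtain ⟨F', v, hF', hv⟩ := hql (pullback u π) F₀ (pullback.snd _ _) inferInstance hF₀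
  refine ⟨F', v ≫ pullback.fst _ _, hle F' hF', ?_⟩
  rw [Category.assoc, pullback.condition, ← Category.assoc]
  exact @epi_comp _ _ _ _ _ (v ≫ pullback.snd u π) hv π hπ

include hsum hqs hql hle hpc in
theorem quasiStable_intermediate : PCoh.IsQuasiStableUnderKernels P₁ := by
  intro K hK ⟨N, hN⟩ hP
  have hcyc : ∀ (k i : ℕ), 1 ≤ i → N + 1 ≤ i + k → ∀ n : ℤ, PCn P n ((sF).obj (K.cycles i)) := by
    intro k
    induction k with
    | zero =>
      intro i _ hi n
      have hz : IsZero (K.cycles i) := IsZero.of_mono (K.iCycles i) (hN i (by omega))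
      exact pcn_of_isZero _ _ fun j _ => (H j).map_isZero ((sF).map_isZero hz)
    | succ k ih =>
      intro i hi1 hi n
      let S := ShortComplex.mk (K.iCycles i) (K.toCycles i (i + 1)) (by
        rw [← cancel_mono (K.iCycles (i + 1))]; simp)
      haveI : Epi (K.toCycles i (i + 1)) := by
        have h := hK (i + 1)
        rw [exactAt_iff' K i (i + 1) (i + 1 + 1) (by simp) (by simp)] at h
        rw [epi_iff_surjective_up_to_refinements]
        intro A y
        obtain ⟨A', q, hq, x, hx⟩ := h.exact_up_to_refinements (y ≫ K.iCycles (i + 1)) (by simp)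
        refine ⟨A', q, hq, x, ?_⟩
        rw [← cancel_mono (K.iCycles (i + 1))]
        simpa using hx
      have hS : S.ShortExact :=
        { exact := by
            refine ShortComplex.exact_of_f_is_kernel _ (KernelFork.IsLimit.ofι' _ _ fun k hk => ⟨K.liftCycles k (i + 1)
              (by simp) ?_, K.liftCycles_i _ _ _ _⟩)
            have := congrArg (· ≫ K.iCycles (i + 1)) hk
            simpa [S] using this }
      simpa using pcn_single_first hsum hqs hql hS (n := n - 1) (by simpa using hpc _ (hP i hi1) n)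
        (ih (i + 1) (by omega) (by omega) (n - 1))
  refine ft_le hle (ft_of_pcn_single hqs ?_)
  let S := ShortComplex.mk (K.d 0 1) (K.toCycles 1 2) (by
    rw [← cancel_mono (K.iCycles 2)]; simp)
  have h0 := hK 0
  rw [exactAt_iff' K 0 0 1 (CochainComplex.prev_nat_zero) (by simp)] at h0
  haveI : Mono (K.d 0 1) := (ShortComplex.exact_iff_mono _ (K.shape 0 0 (by simp))).mp h0
  have h1 := hK 1
  rw [exactAt_iff' K 0 1 2 (by simp) (by simp)] at h1
  haveI : Epi (K.toCycles 1 2) := by
    have h := hK 2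
    rw [exactAt_iff' K 1 2 3 (by simp) (by simp)] at h
    rw [epi_iff_surjective_up_to_refinements]
    intro A y
    obtain ⟨A', q, hq, x, hx⟩ := h.exact_up_to_refinements (y ≫ K.iCycles 2) (by simp)
    refine ⟨A', q, hq, x, ?_⟩
    rw [← cancel_mono (K.iCycles 2)]
    simpa using hx
  have hS : S.ShortExact :=
    { exact := by
        haveI : Mono (K.sc' 0 1 2).f := ‹Mono (K.d 0 1)›
        refine ShortComplex.exact_of_f_is_kernel _ (KernelFork.IsLimit.ofι' _ _ fun k hk => ⟨h1.lift k ?_, h1.lift_f k _⟩)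
        have := congrArg (· ≫ K.iCycles 2) hk
        simpa [S] using this }
  simpa using pcn_single_first hsum hqs hql hS (n := -1) (by simpa using hpc _ (hP 1 le_rfl) 0)
    (hcyc N 2 (by omega) (by omega) (-1))

include hsum hqs hql hle hpc in
theorem pcn_intermediate_iff (n : ℤ) (F : DerivedCategory C) : PCn P₁ n F ↔ PCn P n F := by
  constructor
  · rintro ⟨E, ⟨⟨b, hb⟩, hE⟩, ⟨e⟩⟩
    exact pcn_of_iso e (pcn_of_terms' hsum hqs hql n b E hb fun i hi => hpc _ (hE i hi) (n - i))
  · rintro ⟨E, ⟨hb, hE⟩, e⟩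
    exact ⟨E, ⟨hb, fun i hi => hle _ (hE i hi)⟩, e⟩

end intermediate

section coherent

variable (hcoh : ∀ (X E : C) (u : E ⟶ X), P X → P E → PCoh.IsOfFiniteType P (kernel u))

omit [HasDerivedCategory.{w} C] in
include hcoh in
theorem quasiStable_of_coherent : PCoh.IsQuasiStableUnderKernels P := by
  intro K hK _ hP
  have h0 := hK 0
  rw [exactAt_iff' K 0 0 1 (CochainComplex.prev_nat_zero) (by simp)] at h0
  haveI : Mono (K.d 0 1) := (ShortComplex.exact_iff_mono _ (K.shape 0 0 (by simp))).mp h0
  have h1 := hK 1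
  rw [exactAt_iff' K 0 1 2 (by simp) (by simp)] at h1
  haveI : Mono (K.sc' 0 1 2).f := ‹Mono (K.d 0 1)›
  exact ft_of_iso (IsLimit.conePointUniqueUpToIso (kernelIsKernel _) h1.fIsKernel)
    (hcoh (K.X 2) (K.X 1) (K.d 1 2) (hP 2 (by omega)) (hP 1 le_rfl))

include hsum hql hcoh in
theorem pcn_of_ft_preCoh : ∀ (d : ℕ) (X : C), PCoh.IsOfFiniteType P X → PreCoh P X →
    PCn P (-(d : ℤ)) ((sF).obj X)
  | 0, X, h, _ => by simpa using pcn_single_of_ft hsum hql h
  | d + 1, X, h, hpre => by
    obtain ⟨P₀, π, hP₀, hπ⟩ := h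
    haveI := hπ
    have hK := pcn_of_ft_preCoh d (kernel π) (hpre P₀ π hP₀)
      (preCoh_of_mono (kernel.ι π) fun E u hE => hcoh P₀ E u hP₀ hE)
    exact pcn_single_third hsum (quasiStable_of_coherent hcoh) hql (shortExact_kernel π) (n := -((d + 1 : ℕ) : ℤ))
      (pcn_mono (by omega) hK) (pcn_single_of_mem hP₀ _)

include hsum hql hcoh in
theorem pcn_iff_coherent (n : ℤ) (F : DerivedCategory C) (b : ℤ) (hb : ∀ i : ℤ, b < i → IsZero ((H i).obj F)) :
    PCn P n F ↔ (PCoh.IsOfFiniteType P ((H n).obj F) ∧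
      ∀ i : ℤ, n < i → (PCoh.IsOfFiniteType P ((H i).obj F) ∧ PreCoh P ((H i).obj F))) := by
  have hqs := quasiStable_of_coherent hcoh
  constructor
  · rintro ⟨E, ⟨-, hE⟩, ⟨e⟩⟩
    have hZ : ∀ i, n ≤ i → PCoh.IsOfFiniteType P (E.cycles i) := fun i hi =>
      ft_of_iso (IsLimit.conePointUniqueUpToIso (kernelIsKernel _)
        (E.cyclesIsKernel i (i + 1) (by simp))) (hcoh _ _ (E.d i (i + 1)) (hE _ (by omega)) (hE i hi))
    refine ⟨ft_of_iso (homIso e n) (ft_of_epi (E.homologyπ n) (hZ n le_rfl)),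
      fun i hi => ⟨ft_of_iso (homIso e i) (ft_of_epi (E.homologyπ i) (hZ i hi.le)), ?_⟩⟩
    refine preCoh_of_mono (homIso e i).inv ?_
    exact preCoh_of_exact_epi hsum hql
      (ShortComplex.mk (E.toCycles (i - 1) i) (E.homologyπ i) (E.toCycles_comp_homologyπ _ _))
      (ShortComplex.exact_of_g_is_cokernel _ (E.homologyIsCokernel (i - 1) i (by simp)))
      inferInstance (ft_of_mem (hE (i - 1) (by omega)))
      (preCoh_of_mono (E.iCycles i) fun E' u hE' => hcoh _ E' u (hE i hi.le) hE')
  · rintro ⟨h₁, h₂⟩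
    refine pcn_of_homology' hsum hqs hql n b F hb fun i hi => ?_
    rcases hi.eq_or_lt with rfl | hlt
    · simpa using pcn_single_of_ft hsum hql h₁
    · exact pcn_mono (by omega) (pcn_of_ft_preCoh hsum hql hcoh (i - n).toNat _ (h₂ i hlt).1 (h₂ i hlt).2)

end coherent

section resolution

/-- A partial resolution of length `n`. -/
def HasRes (P : ObjectProperty C) (F : C) (n : ℕ) : Prop :=
  ∃ K : ChainComplex C ℕ, Nonempty (K.X 0 ≅ F) ∧ (∀ j : ℕ, j ≤ n → K.ExactAt j) ∧
    (∀ j : ℕ, n + 1 < j → IsZero (K.X j)) ∧ (∀ j : ℕ, 1 ≤ j → j ≤ n + 1 → P (K.X j))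

omit [P.IsClosedUnderIsomorphisms] [P.ContainsZero] in
lemma epi_of_exactAt_zero (K : ChainComplex C ℕ) (h : K.ExactAt 0) : Epi (K.d 1 0) := by
  rw [exactAt_iff' K 1 0 0 (by simp) (by simp)] at h
  exact (ShortComplex.exact_iff_epi _ (K.shape 0 0 (by simp))).mp h

include hsum hqs hql in
theorem hasRes_iff : ∀ (n : ℕ) (F : C), HasRes P F n ↔ PCn P (-(n : ℤ)) ((sF).obj F)
  | 0, F => by
    constructor
    · rintro ⟨K, ⟨e⟩, hx, -, hP⟩
      haveI := epi_of_exactAt_zero K (hx 0 le_rfl)
      simpa using pcn_single_of_ft hsum hql (ft_of_epi (K.d 1 0 ≫ e.hom) (ft_of_mem (hP 1 le_rfl le_rfl)))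
    · intro h
      obtain ⟨P₀, π, hP₀, hπ⟩ := ft_of_pcn_single hqs (by simpa using h)
      haveI := hπ
      let C₀ := (ChainComplex.single₀ C).obj P₀
      refine ⟨ChainComplex.augment C₀ π (by simp [C₀]), ⟨Iso.refl F⟩, ?_, ?_, ?_⟩
      · intro j hj
        obtain rfl : j = 0 := by omega
        rw [exactAt_iff' _ 1 0 0 (by simp) (by simp)]
        rw [ShortComplex.exact_iff_epi _ rfl]
        exact hπ
      · rintro (_ | j) hj
        · omega
        · exact HomologicalComplex.isZero_single_obj_X (ComplexShape.down ℕ) 0 P₀ j (by omega)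
      · rintro (_ | j) h1 h2
        · omega
        · obtain rfl : j = 0 := by omega
          exact hP₀
  | n + 1, F => by
    constructor
    · rintro ⟨K, ⟨e⟩, hx, hz, hP⟩
      haveI := epi_of_exactAt_zero K (hx 0 (by omega))
      let π := K.d 1 0 ≫ e.hom
      have hres : HasRes P (kernel π) n := by
        let C₂ : ChainComplex C ℕ := ChainComplex.truncate.obj (ChainComplex.truncate.obj K)
        have w1 : K.d 2 1 ≫ π = 0 := by simp [π]
        refine ⟨ChainComplex.augment C₂ (kernel.lift π (K.d 2 1) w1) ?_, ⟨Iso.refl _⟩, ?_, ?_, ?_⟩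
        · rw [← cancel_mono (kernel.ι π), Category.assoc, kernel.lift_ι, zero_comp]
          exact K.d_comp_d 3 2 1
        · rintro (_ | _ | j) hj
          · rw [exactAt_iff' _ 1 0 0 (by simp) (by simp),
              ShortComplex.exact_iff_epi _ rfl]
            show Epi (kernel.lift π (K.d 2 1) w1)
            rw [epi_iff_surjective_up_to_refinements]
            intro A y
            have h1 := hx 1 (by omega)
            rw [exactAt_iff' K 2 1 0 (by simp) (by simp)] at h1
            obtain ⟨A', q, hq, x, hx'⟩ := h1.exact_up_to_refinements (y ≫ kernel.ι π) (by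
              show (y ≫ kernel.ι π) ≫ K.d 1 0 = 0
              rw [← cancel_mono e.hom, zero_comp, Category.assoc, Category.assoc]
              show y ≫ kernel.ι π ≫ π = 0
              simp)
            refine ⟨A', q, hq, x, ?_⟩
            rw [← cancel_mono (kernel.ι π), Category.assoc, Category.assoc, kernel.lift_ι]
            exact hx'
          · have h1 := hx 2 (by omega)
            rw [exactAt_iff' K 3 2 1 (by simp) (by simp)] at h1
            rw [exactAt_iff' _ 2 1 0 (by simp) (by simp)]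
            rw [ShortComplex.exact_iff_exact_up_to_refinements] at h1 ⊢
            intro A x (hx' : x ≫ kernel.lift π (K.d 2 1) w1 = 0)
            refine h1 x ?_
            have := congrArg (· ≫ kernel.ι π) hx'
            simpa using this
          · have h1 := hx (j + 3) (by omega)
            rw [exactAt_iff' K (j + 4) (j + 3) (j + 2) (by simp) (by simp)] at h1
            rw [exactAt_iff' _ (j + 3) (j + 2) (j + 1) (by simp) (by simp)]
            exact h1
        · rintro (_ | j) hj
          · omega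
          · exact hz (j + 2) (by omega)
        · rintro (_ | j) h1 h2
          · omega
          · exact hP (j + 2) (by omega) (by omega)
      have hk := (hasRes_iff n (kernel π)).mp hres
      exact pcn_single_third hsum hqs hql (shortExact_kernel π) (n := -((n + 1 : ℕ) : ℤ))
        (pcn_mono (by omega) hk) (pcn_single_of_mem (hP 1 le_rfl (by omega)) _)
    · intro h
      obtain ⟨P₀, π, hP₀, hπ⟩ := ft_of_pcn_single hqs (pcn_mono (by omega) h)
      haveI := hπ
      obtain ⟨K', ⟨e'⟩, hx, hz, hP⟩ := (hasRes_iff n (kernel π)).mpr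
        (pcn_mono (le_of_eq (by omega)) (pcn_single_first hsum hqs hql (shortExact_kernel π)
          (n := -((n + 1 : ℕ) : ℤ)) (pcn_single_of_mem hP₀ _) h))
      haveI := epi_of_exactAt_zero K' (hx 0 (by omega))
      let g : K'.X 1 ⟶ P₀ := K'.d 1 0 ≫ e'.hom ≫ kernel.ι π
      let C₁ : ChainComplex C ℕ := ChainComplex.augment (ChainComplex.truncate.obj K') g
        (by show K'.d 2 1 ≫ g = 0; simp [g])
      refine ⟨ChainComplex.augment C₁ π (by show g ≫ π = 0; simp [g]), ⟨Iso.refl F⟩, ?_, ?_, ?_⟩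
      · rintro (_ | _ | _ | j) hj
        · rw [exactAt_iff' _ 1 0 0 (by simp) (by simp),
            ShortComplex.exact_iff_epi _ rfl]
          exact hπ
        · rw [exactAt_iff' _ 2 1 0 (by simp) (by simp), ShortComplex.exact_iff_exact_up_to_refinements]
          intro A x (hx' : x ≫ π = 0)
          obtain ⟨A', q, hq, y, hy⟩ := surjective_up_to_refinements_of_epi (K'.d 1 0) (kernel.lift π x hx' ≫ e'.inv)
          refine ⟨A', q, hq, y, ?_⟩
          show q ≫ x = y ≫ g
          rw [show y ≫ g = (y ≫ K'.d 1 0) ≫ e'.hom ≫ kernel.ι π by simp [g], ← hy]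
          simp
        · have h1 := hx 1 (by omega)
          rw [exactAt_iff' K' 2 1 0 (by simp) (by simp)] at h1
          rw [exactAt_iff' _ 3 2 1 (by simp) (by simp)]
          rw [ShortComplex.exact_iff_exact_up_to_refinements] at h1 ⊢
          intro A x (hx' : x ≫ g = 0)
          refine h1 x ?_
          have : (x ≫ K'.d 1 0) ≫ (e'.hom ≫ kernel.ι π) = 0 := by simpa [g] using hx'
          exact zero_of_comp_mono _ this
        · have h1 := hx (j + 2) (by omega)
          rw [exactAt_iff' K' (j + 3) (j + 2) (j + 1) (by simp) (by simp)] at h1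
          rw [exactAt_iff' _ (j + 4) (j + 3) (j + 2) (by simp) (by simp)]
          exact h1
      · rintro (_ | _ | j) hj
        · omega
        · omega
        · exact hz (j + 1) (by omega)
      · rintro (_ | _ | j) h1 h2
        · omega
        · exact hP₀
        · exact hP (j + 1) (by omega) (by omega)

end resolution

end Groth.Agent.PCohLib
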