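import Mathlib
import Groth.Prelude.Def_PCoh

/-!
Objects of finite type with respect to a class of objects of an abelian category.
-/

set_option autoImplicit false
set_option linter.style.haveILetI false

open CategoryTheory CategoryTheory.Limits

universe v u

namespace Groth.Agent.PCohLib

variable {C : Type u} [Category.{v} C] [Abelian C] {P : ObjectProperty C} [P.IsClosedUnderIsomorphisms]
  [P.ContainsZero]

lemma prop_biprod (hsum : ∀ X Y : C, P X → P Y → P (X ⨯ Y)) {X Y : C} (hX : P X) (hY : P Y) : P (X ⊞ Y) :=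
  P.prop_of_iso (biprod.isoProd X Y).symm (hsum X Y hX hY)

omit [P.ContainsZero] in
lemma prop_biprod_zero_right {X Y : C} (hX : P X) (hY : IsZero Y) : P (X ⊞ Y) :=
  P.prop_of_iso ({ hom := biprod.inl, inv := biprod.fst,
                   inv_hom_id := biprod.hom_ext _ _ (by simp) (hY.eq_of_tgt _ _) } : X ≅ X ⊞ Y) hX

omit [P.IsClosedUnderIsomorphisms] [P.ContainsZero] in
lemma ft_of_mem {X : C} (hX : P X) : PCoh.IsOfFiniteType P X := ⟨X, 𝟙 X, hX, inferInstance⟩

omit [P.IsClosedUnderIsomorphisms] [P.ContainsZero] in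
lemma ft_of_epi {X Y : C} (f : X ⟶ Y) [Epi f] (h : PCoh.IsOfFiniteType P X) : PCoh.IsOfFiniteType P Y := by
  obtain ⟨E, π, hE, hπ⟩ := h
  exact ⟨E, π ≫ f, hE, epi_comp _ _⟩

omit [P.IsClosedUnderIsomorphisms] [P.ContainsZero] in
lemma ft_of_iso {X Y : C} (e : X ≅ Y) (h : PCoh.IsOfFiniteType P X) : PCoh.IsOfFiniteType P Y := ft_of_epi e.hom h

lemma ft_of_isZero {X : C} (h : IsZero X) : PCoh.IsOfFiniteType P X :=
  ft_of_mem (P.prop_of_isZero h)

/-- `P` is precoherent in the sense used here: kernels of maps from `P` are of finite type. -/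
abbrev PreCoh (P : ObjectProperty C) (X : C) : Prop :=
  ∀ (E : C) (u : E ⟶ X), P E → PCoh.IsOfFiniteType P (kernel u)

omit [P.IsClosedUnderIsomorphisms] [P.ContainsZero] in
lemma preCoh_of_mono {X Y : C} (f : X ⟶ Y) [Mono f] (h : PreCoh P Y) : PreCoh P X := by
  intro E u hE
  exact ft_of_iso (kernelCompMono u f) (h E (u ≫ f) hE)

omit [P.IsClosedUnderIsomorphisms] [P.ContainsZero] in
/-- Kernels of epimorphisms onto precoherent objects from objects of finite type are of finite type. -/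
lemma ft_of_exact {X₁ X₂ X₃ : C} (hS' : PreCoh P X₃) (f : X₁ ⟶ X₂) (g : X₂ ⟶ X₃) [Mono f] (w : f ≫ g = 0)
    (hS : (ShortComplex.mk f g w).Exact) (h₂ : PCoh.IsOfFiniteType P X₂) : PCoh.IsOfFiniteType P X₁ := by
  obtain ⟨E, π, hE, hπ⟩ := h₂
  have hK := hS' E (π ≫ g) hE
  let l : kernel (π ≫ g) ⟶ X₁ := hS.lift (kernel.ι (π ≫ g) ≫ π) (by simp)
  have hl : l ≫ f = kernel.ι (π ≫ g) ≫ π := hS.lift_f _ _
  haveI : Epi l := by
    rw [epi_iff_surjective_up_to_refinements]
    intro A y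
    obtain ⟨A', q, hq, z, hz⟩ := surjective_up_to_refinements_of_epi π (y ≫ f)
    refine ⟨A', q, hq, kernel.lift (π ≫ g) z ?_, ?_⟩
    · rw [← reassoc_of% hz, w, comp_zero, comp_zero]
    · rw [← cancel_mono f, Category.assoc, Category.assoc, hl, kernel.lift_ι_assoc, hz]
  exact ft_of_epi l hK

/-- Extensions of objects of finite type are of finite type. -/
lemma ft_extension (hsum : ∀ X Y : C, P X → P Y → P (X ⨯ Y)) (hql : PCoh.IsQuasiLiftable P)
    (S : ShortComplex C) (hS : S.ShortExact) (h₁ : PCoh.IsOfFiniteType P S.X₁)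
    (h₃ : PCoh.IsOfFiniteType P S.X₃) : PCoh.IsOfFiniteType P S.X₂ := by
  obtain ⟨E₁, π₁, hE₁, hπ₁⟩ := h₁
  obtain ⟨E₃, π₃, hE₃, hπ₃⟩ := h₃
  haveI := hS.epi_g
  obtain ⟨F', v, hF', hv⟩ := hql (pullback S.g π₃) E₃ (pullback.snd S.g π₃) inferInstance hE₃
  refine ⟨E₁ ⊞ F', biprod.desc (π₁ ≫ S.f) (v ≫ pullback.fst S.g π₃), prop_biprod hsum hE₁ hF', ?_⟩
  rw [epi_iff_surjective_up_to_refinements]
  intro A y
  obtain ⟨A₁, q₁, hq₁, z, hz⟩ := surjective_up_to_refinements_of_epi π₃ (y ≫ S.g)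
  obtain ⟨A₂, q₂, hq₂, s, hs⟩ := surjective_up_to_refinements_of_epi (v ≫ pullback.snd S.g π₃) z
  have h0 : ((q₂ ≫ q₁) ≫ y - s ≫ v ≫ pullback.fst S.g π₃) ≫ S.g = 0 := by
    simp only [Preadditive.sub_comp, Category.assoc]
    rw [hz, reassoc_of% hs, pullback.condition, sub_self]
  obtain ⟨A₃, q₃, hq₃, t, ht⟩ := hS.exact.exact_up_to_refinements _ h0
  obtain ⟨A₄, q₄, hq₄, r, hr⟩ := surjective_up_to_refinements_of_epi π₁ t
  refine ⟨A₄, q₄ ≫ q₃ ≫ q₂ ≫ q₁, inferInstance, biprod.lift r (q₄ ≫ q₃ ≫ s), ?_⟩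
  rw [biprod.lift_desc]
  simp only [Category.assoc]
  rw [← reassoc_of% hr, ← ht, Preadditive.comp_sub, Preadditive.comp_sub]
  simp only [Category.assoc]
  abel

/-- A quotient of a precoherent object by an object of finite type is precoherent. -/
lemma preCoh_of_exact_epi (hsum : ∀ X Y : C, P X → P Y → P (X ⨯ Y)) (hql : PCoh.IsQuasiLiftable P)
    (S : ShortComplex C) (hS : S.Exact) (hg : Epi S.g) (h₁ : PCoh.IsOfFiniteType P S.X₁)
    (h₂ : PreCoh P S.X₂) : PreCoh P S.X₃ := by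
  intro E u hE
  obtain ⟨F', v, hF', hv⟩ := hql (pullback S.g u) E (pullback.snd S.g u) inferInstance hE
  obtain ⟨E₁, π₁, hE₁, hπ₁⟩ := h₁
  let w : F' ⊞ E₁ ⟶ S.X₂ := biprod.desc (v ≫ pullback.fst S.g u) (π₁ ≫ S.f)
  have hw := h₂ _ w (prop_biprod hsum hF' hE₁)
  let l : kernel w ⟶ kernel u :=
    kernel.lift u (kernel.ι w ≫ biprod.fst ≫ v ≫ pullback.snd S.g u) (by
      have h := congrArg (· ≫ S.g) (kernel.condition w)
      simp only [zero_comp, Category.assoc] at h
      simp only [Category.assoc, ← pullback.condition]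
      refine Eq.trans ?_ h
      congr 1
      apply biprod.hom_ext' <;> simp [w, S.zero])
  haveI : Epi l := by
    rw [epi_iff_surjective_up_to_refinements]
    intro A y
    obtain ⟨A₁, q₁, hq₁, z, hz⟩ := surjective_up_to_refinements_of_epi (v ≫ pullback.snd S.g u) (y ≫ kernel.ι u)
    have h0 : (z ≫ v ≫ pullback.fst S.g u) ≫ S.g = 0 := by
      simp only [Category.assoc, pullback.condition]
      rw [← reassoc_of% hz, kernel.condition, comp_zero, comp_zero]
    obtain ⟨A₂, q₂, hq₂, t, ht⟩ := hS.exact_up_to_refinements _ h0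
    obtain ⟨A₃, q₃, hq₃, r, hr⟩ := surjective_up_to_refinements_of_epi π₁ t
    refine ⟨A₃, q₃ ≫ q₂ ≫ q₁, inferInstance,
      kernel.lift w (biprod.lift (q₃ ≫ q₂ ≫ z) (-r)) ?_, ?_⟩
    · simp only [w, biprod.lift_desc, Preadditive.neg_comp, Category.assoc]
      rw [ht, ← reassoc_of% hr, add_neg_cancel]
    · rw [← cancel_mono (kernel.ι u)]
      simp only [l, Category.assoc, kernel.lift_ι, kernel.lift_ι_assoc, biprod.lift_fst_assoc]
      rw [hz]
  exact ft_of_epi l hw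

/-- Extensions of precoherent objects are precoherent. -/
lemma preCoh_extension (S : ShortComplex C) (hS : S.ShortExact) (h₁ : PreCoh P S.X₁) (h₃ : PreCoh P S.X₃) :
    PreCoh P S.X₂ := by
  intro E u hE
  obtain ⟨E', π, hE', hπ⟩ := h₃ E (u ≫ S.g) hE
  haveI := hS.mono_f
  let t : E' ⟶ S.X₁ := hS.exact.lift (π ≫ kernel.ι (u ≫ S.g) ≫ u) (by simp)
  have ht : t ≫ S.f = π ≫ kernel.ι (u ≫ S.g) ≫ u := hS.exact.lift_f _ _
  have hK := h₁ E' t hE'
  let l : kernel t ⟶ kernel u :=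
    kernel.lift u (kernel.ι t ≫ π ≫ kernel.ι (u ≫ S.g)) (by
      simp only [Category.assoc]
      rw [← ht, kernel.condition_assoc, zero_comp])
  haveI : Epi l := by
    rw [epi_iff_surjective_up_to_refinements]
    intro A y
    obtain ⟨A₁, q₁, hq₁, z, hz⟩ := surjective_up_to_refinements_of_epi π
      (kernel.lift (u ≫ S.g) (y ≫ kernel.ι u) (by simp))
    refine ⟨A₁, q₁, hq₁, kernel.lift t z ?_, ?_⟩
    · rw [← cancel_mono S.f, Category.assoc, ht, zero_comp, ← reassoc_of% hz, kernel.lift_ι_assoc]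
      simp
    · rw [← cancel_mono (kernel.ι u)]
      simp only [l, Category.assoc, kernel.lift_ι, kernel.lift_ι_assoc]
      rw [← reassoc_of% hz, kernel.lift_ι]
  exact ft_of_epi l hK

end Groth.Agent.PCohLib
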