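import Groth.Agent.PCohLib.Basic

/-!
Acyclicity of mapping cones in a range of degrees.
-/

set_option autoImplicit false
set_option linter.style.haveILetI false

open CategoryTheory CategoryTheory.Limits CochainComplex HomologicalComplex

universe w v u

namespace Groth.Agent.PCohLib

variable {C : Type u} [Category.{v} C] [Abelian C]

/-- The mapping cone is exact in degrees `≥ n`. -/
def ExactGE {E F : CochainComplex C ℤ} (u : E ⟶ F) (n : ℤ) : Prop :=
  ∀ i, n ≤ i → (mappingCone u).ExactAt i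

lemma ExactGE.mono {E F : CochainComplex C ℤ} {u : E ⟶ F} {n m : ℤ} (h : ExactGE u n) (hm : n ≤ m) :
    ExactGE u m :=
  fun i hi => h i (hm.trans hi)

variable [HasDerivedCategory.{w} C]

lemma exactAt_cone_iff' {E F : CochainComplex C ℤ} (u : E ⟶ F) (i : ℤ) :
    (mappingCone u).ExactAt i ↔ Epi (homologyMap u i) ∧ Mono (homologyMap u (i + 1)) := by
  have hT := DerivedCategory.mappingCone_triangle_distinguished u
  have h₁ := homologyMap_exact₁_of_distTriang _ hT i (i + 1) rfl
  have h₂ := homologyMap_exact₂_of_distTriang _ hT i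
  have h₃ := homologyMap_exact₃_of_distTriang _ hT i (i + 1) rfl
  rw [exactAt_iff_isZero_homology]
  refine h₃.isZero_X₂_iff.trans (and_congr ?_ ?_)
  · exact h₂.epi_f_iff.symm
  · exact h₁.mono_g_iff.symm

theorem exactGE_iff' {E F : CochainComplex C ℤ} (u : E ⟶ F) (n : ℤ) :
    ExactGE u n ↔ (∀ i : ℤ, n < i → IsIso (homologyMap u i)) ∧ Epi (homologyMap u n) := by
  constructor
  · intro h
    refine ⟨fun i hi => ?_, ((exactAt_cone_iff' u n).mp (h n le_rfl)).1⟩
    have h1 := ((exactAt_cone_iff' u i).mp (h i hi.le)).1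
    have h2 := ((exactAt_cone_iff' u (i - 1)).mp (h (i - 1) (by omega))).2
    rw [sub_add_cancel] at h2
    exact isIso_of_mono_of_epi _
  · rintro ⟨h1, h2⟩ i hi
    rw [exactAt_cone_iff']
    have := h1 (i + 1) (by omega)
    refine ⟨?_, inferInstance⟩
    rcases hi.eq_or_lt with rfl | hlt
    · exact h2
    · have := h1 i hlt
      infer_instance

theorem quasiIso_iff_exactGE' {E F : CochainComplex C ℤ} (u : E ⟶ F) : QuasiIso u ↔ ∀ n, ExactGE u n := by
  simp only [exactGE_iff', quasiIso_iff, quasiIsoAt_iff_isIso_homologyMap]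
  constructor
  · intro h n
    have := h n
    exact ⟨fun i _ => h i, inferInstance⟩
  · intro h i
    exact (h (i - 1)).1 i (by omega)

omit [HasDerivedCategory.{w} C]

lemma exactAt_cone_iff {E F : CochainComplex C ℤ} (u : E ⟶ F) (i : ℤ) :
    (mappingCone u).ExactAt i ↔ Epi (homologyMap u i) ∧ Mono (homologyMap u (i + 1)) := by
  letI := HasDerivedCategory.standard C
  exact exactAt_cone_iff' u i

theorem exactGE_iff {E F : CochainComplex C ℤ} (u : E ⟶ F) (n : ℤ) :
    ExactGE u n ↔ (∀ i : ℤ, n < i → IsIso (homologyMap u i)) ∧ Epi (homologyMap u n) := by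
  letI := HasDerivedCategory.standard C
  exact exactGE_iff' u n

theorem quasiIso_iff_exactGE {E F : CochainComplex C ℤ} (u : E ⟶ F) : QuasiIso u ↔ ∀ n, ExactGE u n := by
  letI := HasDerivedCategory.standard C
  exact quasiIso_iff_exactGE' u

lemma exactAt_of_isZero {K : CochainComplex C ℤ} {i : ℤ} (h : IsZero (K.X i)) : K.ExactAt i :=
  ShortComplex.exact_of_isZero_X₂ _ h

lemma exactGE_of_isZero {E F : CochainComplex C ℤ} (u : E ⟶ F) (n : ℤ)
    (hE : ∀ i, n < i → IsZero (E.X i)) (hF : ∀ i, n ≤ i → IsZero (F.X i)) : ExactGE u n :=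
  fun i hi => exactAt_of_isZero ((mappingCone.isZero_X_iff u i).mpr ⟨hE _ (by omega), hF i hi⟩)

/-- The cone of a map out of a zero complex. -/
theorem exactGE_of_zero {E F : CochainComplex C ℤ} (u : E ⟶ F) (n : ℤ) (hE : ∀ i, IsZero (E.X i))
    (hF : ∀ i, n ≤ i → F.ExactAt i) : ExactGE u n := by
  rw [exactGE_iff]
  refine ⟨fun i hi => ?_, ?_⟩
  · exact ⟨⟨0, ((exactAt_iff_isZero_homology _ _).mp (exactAt_of_isZero (hE i))).eq_of_src _ _,
      ((exactAt_iff_isZero_homology _ _).mp (hF i hi.le)).eq_of_src _ _⟩⟩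
  · exact ((exactAt_iff_isZero_homology _ _).mp (hF n le_rfl)).epi _

end Groth.Agent.PCohLib
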