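import Groth.Agent.PCohLib.Steps

/-!
Pseudo-coherent objects of the derived category.
-/

set_option autoImplicit false
set_option linter.style.haveILetI false
set_option linter.unusedSectionVars false
set_option backward.isDefEq.respectTransparency false

open CategoryTheory CategoryTheory.Limits CochainComplex HomologicalComplex
open CategoryTheory.Pretriangulated DerivedCategory

universe w v u

namespace Groth.Agent.PCohLib

variable {C : Type u} [Category.{v} C] [Abelian C] [HasDerivedCategory.{w} C] {P : ObjectProperty C}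
  [P.IsClosedUnderIsomorphisms] [P.ContainsZero]

/-- `F` is `n`-pseudo-coherent. -/
abbrev PCn (P : ObjectProperty C) (n : ℤ) (F : DerivedCategory C) : Prop :=
  ∃ E : CochainComplex C ℤ, PCoh.IsStrictPC P n E ∧ Nonempty (DerivedCategory.Q.obj E ≅ F)

lemma pcn_of_iso {n : ℤ} {F G : DerivedCategory C} (e : F ≅ G) (h : PCn P n F) : PCn P n G :=
  let ⟨E, hE, ⟨e'⟩⟩ := h; ⟨E, hE, ⟨e'.trans e⟩⟩

lemma pcn_mono {n m : ℤ} (h : n ≤ m) {F : DerivedCategory C} (hF : PCn P n F) : PCn P m F :=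
  let ⟨E, hE, e⟩ := hF; ⟨E, isStrictPC_mono h hE, e⟩

lemma isZero_H_iff (E : CochainComplex C ℤ) (i : ℤ) :
    IsZero ((DerivedCategory.homologyFunctor C i).obj (DerivedCategory.Q.obj E)) ↔ E.ExactAt i := by
  rw [exactAt_iff_isZero_homology]
  exact ((DerivedCategory.homologyFunctorFactors C i).app E).isZero_iff

/-- Homology of a complex is the homology of its image in the derived category. -/
noncomputable def homIso {E : CochainComplex C ℤ} {F : DerivedCategory C} (e : DerivedCategory.Q.obj E ≅ F) (i : ℤ) :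
    E.homology i ≅ (DerivedCategory.homologyFunctor C i).obj F :=
  ((DerivedCategory.homologyFunctorFactors C i).app E).symm ≪≫ (DerivedCategory.homologyFunctor C i).mapIso e

omit [P.IsClosedUnderIsomorphisms] [P.ContainsZero] in
lemma exactAt_of_iso_Q {E : CochainComplex C ℤ} {F : DerivedCategory C} (e : DerivedCategory.Q.obj E ≅ F) {i : ℤ}
    (h : IsZero ((DerivedCategory.homologyFunctor C i).obj F)) : E.ExactAt i :=
  (exactAt_iff_isZero_homology _ _).mpr (h.of_iso (homIso e i))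

lemma bdd_of_pcn {n : ℤ} {F : DerivedCategory C} (hF : PCn P n F) :
    ∃ b : ℤ, ∀ i, b < i → IsZero ((DerivedCategory.homologyFunctor C i).obj F) := by
  obtain ⟨E, ⟨⟨b, hb⟩, -⟩, ⟨e⟩⟩ := hF
  exact ⟨b, fun i hi => ((exactAt_iff_isZero_homology _ _).mp (exactAt_of_isZero (hb i hi))).of_iso (homIso e i).symm⟩

theorem ft_of_pcn (hqs : PCoh.IsQuasiStableUnderKernels P) {n : ℤ} {F : DerivedCategory C} (hF : PCn P n F)
    (hac : ∀ i : ℤ, n < i → IsZero ((DerivedCategory.homologyFunctor C i).obj F)) :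
    PCoh.IsOfFiniteType P ((DerivedCategory.homologyFunctor C n).obj F) := by
  obtain ⟨E, hE, ⟨e⟩⟩ := hF
  exact ft_of_iso (homIso e n) (ft_homology hqs n E hE fun i hi => exactAt_of_iso_Q e (hac i hi))

/-- The cone of a commutative square in the derived category. -/
noncomputable def coneQIso {E F E' F' : CochainComplex C ℤ} (u : E ⟶ F) (u' : E' ⟶ F')
    (e₁ : DerivedCategory.Q.obj E ≅ DerivedCategory.Q.obj E') (e₂ : DerivedCategory.Q.obj F ≅ DerivedCategory.Q.obj F')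
    (h : DerivedCategory.Q.map u ≫ e₂.hom = e₁.hom ≫ DerivedCategory.Q.map u') :
    DerivedCategory.Q.obj (mappingCone u) ≅ DerivedCategory.Q.obj (mappingCone u') :=
  Triangle.π₃.mapIso (isoTriangleOfIso₁₂ _ _ (mappingCone_triangle_distinguished u)
    (mappingCone_triangle_distinguished u') e₁ e₂ h)

/-- A complex receiving a map from a strictly pseudo-coherent complex, compared with another one. -/
lemma coneFT_apply {n j : ℤ} {E F E' F' : CochainComplex C ℤ} (hF' : ConeFT P n F') (u : E ⟶ F) (u' : E' ⟶ F')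
    (e₁ : DerivedCategory.Q.obj E ≅ DerivedCategory.Q.obj E') (e₂ : DerivedCategory.Q.obj F ≅ DerivedCategory.Q.obj F')
    (h : DerivedCategory.Q.map u ≫ e₂.hom = e₁.hom ≫ DerivedCategory.Q.map u')
    (hj : n ≤ j) (hE' : PCoh.IsStrictPC P n E') (hu : ExactGE u (j + 1)) :
    PCoh.IsOfFiniteType P ((mappingCone u).homology j) := by
  let e := coneQIso u u' e₁ e₂ h
  have hH := hF' E' u' j hj hE' fun i hi =>
    exactAt_of_iso_Q e.symm ((isZero_H_iff _ _).mpr (hu i hi))
  exact ft_of_iso (homIso e.symm j ≪≫ (DerivedCategory.homologyFunctorFactors C j).app _) hH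

/-- Strictly pseudo-coherent replacement of the source of a quasi-isomorphism. -/
theorem exists_replace' (hsum : ∀ X Y : C, P X → P Y → P (X ⨯ Y)) (hqs : PCoh.IsQuasiStableUnderKernels P)
    (hql : PCoh.IsQuasiLiftable P) (n : ℤ) (E F : CochainComplex C ℤ) (hF : PCoh.IsStrictPC P n F) (u : E ⟶ F)
    (hu : QuasiIso u) : ∃ (F' : CochainComplex C ℤ) (v : F' ⟶ E), PCoh.IsStrictPC P n F' ∧ QuasiIso v := by
  have hFT : ConeFT P n E := fun E₀ x j hj hE₀ hx =>
    coneFT_apply (coneFT_of_strict hsum hqs hF) x (x ≫ u) (Iso.refl _) (asIso (DerivedCategory.Q.map u))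
      (by simp) hj hE₀ hx
  obtain ⟨b, hb⟩ := hF.1
  let Z : CochainComplex C ℤ := HomologicalComplex.zero
  have hZ : ∀ i, IsZero (Z.X i) := fun i =>
    (HomologicalComplex.eval C (ComplexShape.up ℤ) i).map_isZero HomologicalComplex.isZero_zero
  obtain ⟨F', v, u', -, hF', hq, -, -⟩ := exists_factor hsum hql hFT (b + 1) (0 : Z ⟶ E)
    ⟨⟨0, fun i _ => hZ i⟩, fun i _ => P.prop_of_isZero (hZ i)⟩
    (exactGE_of_zero _ _ hZ fun i hi => by
      rw [exactAt_iff_isZero_homology]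
      exact ((exactAt_iff_isZero_homology _ _).mp (exactAt_of_isZero (hb i (by omega)))).of_iso
        (asIso (homologyMap u i)))
  exact ⟨F', u', hF', hq⟩

/-- Strict replacement of the source of a roof. -/
theorem exists_roof (hsum : ∀ X Y : C, P X → P Y → P (X ⨯ Y)) (hqs : PCoh.IsQuasiStableUnderKernels P)
    (hql : PCoh.IsQuasiLiftable P) {n : ℤ} {E Y : CochainComplex C ℤ} (hE : PCoh.IsStrictPC P n E)
    (f : DerivedCategory.Q.obj E ⟶ DerivedCategory.Q.obj Y) :
    ∃ (E' : CochainComplex C ℤ) (s : E' ⟶ E) (_ : QuasiIso s) (g : E' ⟶ Y), PCoh.IsStrictPC P n E' ∧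
      DerivedCategory.Q.map s ≫ f = DerivedCategory.Q.map g := by
  obtain ⟨X, s, hs, g, rfl⟩ := DerivedCategory.right_fac f
  haveI := (DerivedCategory.isIso_Q_map_iff_quasiIso C s).mp hs
  obtain ⟨E', v, hE', hv⟩ := exists_replace' hsum hqs hql n X E hE s inferInstance
  refine ⟨E', v ≫ s, inferInstance, v ≫ g, hE', ?_⟩
  rw [Functor.map_comp, Functor.map_comp, Category.assoc, IsIso.hom_inv_id_assoc]

/-- Every complex representing an `n`-pseudo-coherent object receives a quasi-isomorphism from a strict one. -/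
theorem exists_qiso_from (hsum : ∀ X Y : C, P X → P Y → P (X ⨯ Y)) (hqs : PCoh.IsQuasiStableUnderKernels P)
    (hql : PCoh.IsQuasiLiftable P) {n : ℤ} {Y : CochainComplex C ℤ} (hY : PCn P n (DerivedCategory.Q.obj Y)) :
    ∃ (E : CochainComplex C ℤ) (g : E ⟶ Y), PCoh.IsStrictPC P n E ∧ QuasiIso g := by
  obtain ⟨E, hE, ⟨e⟩⟩ := hY
  obtain ⟨E', s, hs, g, hE', h⟩ := exists_roof hsum hqs hql hE e.hom
  refine ⟨E', g, hE', (DerivedCategory.isIso_Q_map_iff_quasiIso C g).mp ?_⟩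
  rw [← h]
  infer_instance

theorem coneFT_of_pcn (hsum : ∀ X Y : C, P X → P Y → P (X ⨯ Y)) (hqs : PCoh.IsQuasiStableUnderKernels P)
    (hql : PCoh.IsQuasiLiftable P) {n : ℤ} {F : CochainComplex C ℤ} (hF : PCn P n (DerivedCategory.Q.obj F)) :
    ConeFT P n F := by
  obtain ⟨Y, g, hY, hg⟩ := exists_qiso_from hsum hqs hql hF
  intro E u j hj hE hu
  obtain ⟨E', s, hs, h, hE', hh⟩ := exists_roof hsum hqs hql hE
    (DerivedCategory.Q.map u ≫ inv (DerivedCategory.Q.map g))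
  exact coneFT_apply (coneFT_of_strict hsum hqs hY) u h (asIso (DerivedCategory.Q.map s)).symm
    (asIso (DerivedCategory.Q.map g)).symm (by simp [← hh]) hj hE' hu

/-- Morphisms between pseudo-coherent objects come from strict complexes. -/
theorem exists_repr (hsum : ∀ X Y : C, P X → P Y → P (X ⨯ Y)) (hqs : PCoh.IsQuasiStableUnderKernels P)
    (hql : PCoh.IsQuasiLiftable P) {n m : ℤ} {A B : DerivedCategory C} (hA : PCn P n A) (hB : PCn P m B) (f : A ⟶ B) :
    ∃ (E₁ E₂ : CochainComplex C ℤ) (φ : E₁ ⟶ E₂) (e₁ : DerivedCategory.Q.obj E₁ ≅ A)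
      (e₂ : DerivedCategory.Q.obj E₂ ≅ B), PCoh.IsStrictPC P n E₁ ∧ PCoh.IsStrictPC P m E₂ ∧
        DerivedCategory.Q.map φ ≫ e₂.hom = e₁.hom ≫ f := by
  obtain ⟨A₀, hA₀, ⟨eA⟩⟩ := hA
  obtain ⟨B₀, hB₀, ⟨eB⟩⟩ := hB
  obtain ⟨E', s, hs, g, hE', h⟩ := exists_roof hsum hqs hql hA₀ (eA.hom ≫ f ≫ eB.inv)
  exact ⟨E', B₀, g, asIso (DerivedCategory.Q.map s) ≪≫ eA, eB, hE', hB₀, by simp [← h]⟩

theorem pcn_shift {n : ℤ} {F : DerivedCategory C} (hF : PCn P n F) (m k : ℤ) (hk : k = n - m) :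
    PCn P k ((CategoryTheory.shiftFunctor (DerivedCategory C) m).obj F) := by
  obtain ⟨E, ⟨⟨b, hb⟩, hP⟩, ⟨e⟩⟩ := hF
  refine ⟨(CategoryTheory.shiftFunctor (CochainComplex C ℤ) m).obj E, ⟨⟨b - m, fun i hi => hb (i + m) (by omega)⟩,
    fun i hi => hP (i + m) (by omega)⟩, ⟨((DerivedCategory.Q (C := C)).commShiftIso m).app E ≪≫
      (CategoryTheory.shiftFunctor (DerivedCategory C) m).mapIso e⟩⟩

theorem pcn_of_shift {n : ℤ} {F : DerivedCategory C} (m k : ℤ) (hk : k = n - m)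
    (hF : PCn P k ((CategoryTheory.shiftFunctor (DerivedCategory C) m).obj F)) : PCn P n F :=
  pcn_of_iso ((shiftFunctorCompIsoId (DerivedCategory C) m (-m) (by omega)).app F)
    (pcn_shift hF (-m) n (by omega))

/-- Third object of a triangle. -/
theorem pcn_third (hsum : ∀ X Y : C, P X → P Y → P (X ⨯ Y)) (hqs : PCoh.IsQuasiStableUnderKernels P)
    (hql : PCoh.IsQuasiLiftable P) {n : ℤ} {T : Triangle (DerivedCategory C)} (hT : T ∈ distinguishedTriangles)
    (h₁ : PCn P (n + 1) T.obj₁) (h₂ : PCn P n T.obj₂) : PCn P n T.obj₃ := by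
  obtain ⟨E₁, E₂, φ, e₁, e₂, hE₁, hE₂, h⟩ := exists_repr hsum hqs hql h₁ h₂ T.mor₁
  exact ⟨mappingCone φ, isStrictPC_cone hsum φ hE₁ hE₂,
    ⟨Triangle.π₃.mapIso (isoTriangleOfIso₁₂ _ _ (mappingCone_triangle_distinguished φ) hT e₁ e₂ h)⟩⟩

/-- Middle object of a triangle. -/
theorem pcn_middle (hsum : ∀ X Y : C, P X → P Y → P (X ⨯ Y)) (hqs : PCoh.IsQuasiStableUnderKernels P)
    (hql : PCoh.IsQuasiLiftable P) {n : ℤ} {T : Triangle (DerivedCategory C)} (hT : T ∈ distinguishedTriangles)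
    (h₁ : PCn P n T.obj₁) (h₃ : PCn P n T.obj₃) : PCn P n T.obj₂ :=
  pcn_third hsum hqs hql (T := T.invRotate) (inv_rot_of_distTriang _ hT) (pcn_shift h₃ (-1) (n + 1) (by omega)) h₁

/-- First object of a triangle. -/
theorem pcn_first (hsum : ∀ X Y : C, P X → P Y → P (X ⨯ Y)) (hqs : PCoh.IsQuasiStableUnderKernels P)
    (hql : PCoh.IsQuasiLiftable P) {n : ℤ} {T : Triangle (DerivedCategory C)} (hT : T ∈ distinguishedTriangles)
    (h₂ : PCn P (n + 1) T.obj₂) (h₃ : PCn P n T.obj₃) : PCn P (n + 1) T.obj₁ :=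
  pcn_third hsum hqs hql (T := T.invRotate.invRotate) (inv_rot_of_distTriang _ (inv_rot_of_distTriang _ hT))
    (pcn_shift h₂ (-1) (n + 1 + 1) (by omega)) (pcn_shift h₃ (-1) (n + 1) (by omega))

/-- An object without homology in degrees `≥ n` is `n`-pseudo-coherent. -/
theorem pcn_of_isZero (n : ℤ) (F : DerivedCategory C)
    (h : ∀ i : ℤ, n ≤ i → IsZero ((DerivedCategory.homologyFunctor C i).obj F)) : PCn P n F := by
  haveI : F.IsLE (n - 1) := (DerivedCategory.isLE_iff _ _).mpr fun i hi => h i (by omega)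
  obtain ⟨K, hK, ⟨e⟩⟩ := DerivedCategory.exists_iso_Q_obj_of_isLE F (n - 1)
  exact ⟨K, ⟨⟨n - 1, fun i hi => K.isZero_of_isStrictlyLE (n - 1) i hi⟩,
    fun i hi => P.prop_of_isZero (K.isZero_of_isStrictlyLE (n - 1) i (by omega))⟩, ⟨e.symm⟩⟩

/-- An object with top homology of finite type in degree `n` is `n`-pseudo-coherent. -/
theorem pcn_of_ft (hsum : ∀ X Y : C, P X → P Y → P (X ⨯ Y)) (hql : PCoh.IsQuasiLiftable P) (n : ℤ)
    (F : DerivedCategory C) (hac : ∀ i : ℤ, n < i → IsZero ((DerivedCategory.homologyFunctor C i).obj F))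
    (h : PCoh.IsOfFiniteType P ((DerivedCategory.homologyFunctor C n).obj F)) : PCn P n F := by
  let Y := DerivedCategory.Q.objPreimage F
  let e : DerivedCategory.Q.obj Y ≅ F := DerivedCategory.Q.objObjPreimageIso F
  let Z : CochainComplex C ℤ := HomologicalComplex.zero
  have hZ : ∀ i, IsZero (Z.X i) := fun i =>
    (HomologicalComplex.eval C (ComplexShape.up ℤ) i).map_isZero HomologicalComplex.isZero_zero
  have hx : ExactGE (0 : Z ⟶ Y) (n + 1) :=
    exactGE_of_zero _ _ hZ fun i hi => exactAt_of_iso_Q e (hac i (by omega))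
  have hcone : PCoh.IsOfFiniteType P ((mappingCone (0 : Z ⟶ Y)).homology n) := by
    have hinr : QuasiIso (mappingCone.inr (0 : Z ⟶ Y)) := by
      rw [← DerivedCategory.isIso_Q_map_iff_quasiIso]
      exact (Triangle.isZero₁_iff_isIso₂ _ (mappingCone_triangle_distinguished (0 : Z ⟶ Y))).mp
        (DerivedCategory.Q.map_isZero HomologicalComplex.isZero_zero)
    exact ft_of_iso ((homIso e n).symm ≪≫ asIso (homologyMap (mappingCone.inr (0 : Z ⟶ Y)) n)) h
  obtain ⟨E, v, u, -, -, hi, hc, hxu, -⟩ := exists_step hsum hql n (0 : Z ⟶ Y) hx hcone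
  have hEz : ∀ i, i ≠ n → IsZero (E.X i) := fun i hin => by
    haveI := hi i hin
    exact (hZ i).of_iso (asIso (v.f i)).symm
  have hEn : P (E.X n) := by
    refine P.prop_of_iso ?_ hc
    exact (cokernel.mapIso (v.f n) (0 : Z.X n ⟶ E.X n) (Iso.refl _) (Iso.refl _)
      ((hZ n).eq_of_src _ _)).trans cokernelZeroIsoTarget
  obtain ⟨E', v', u', -, hq, -, hi'⟩ := exists_trunc n u hxu
  have hE' : ∀ i, n ≤ i → Nonempty (E.X i ≅ E'.X i) := fun i hin => by
    haveI := hi' i hin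
    exact ⟨asIso (v'.f i)⟩
  refine ⟨E', ⟨⟨n, fun i hin => ?_⟩, fun i hin => ?_⟩, ⟨asIso (DerivedCategory.Q.map u') ≪≫ e⟩⟩
  · obtain ⟨eE⟩ := hE' i hin.le
    exact (hEz i hin.ne').of_iso eE.symm
  · obtain ⟨eE⟩ := hE' i hin
    refine P.prop_of_iso eE ?_
    rcases eq_or_ne i n with rfl | hne
    · exact hEn
    · exact P.prop_of_isZero (hEz i hne)

end Groth.Agent.PCohLib
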