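import Groth.Agent.PCohLib.Cone

/-!
Extension of a complex by a complex mapping to a mapping cone.
-/

set_option autoImplicit false
set_option linter.style.haveILetI false
set_option backward.isDefEq.respectTransparency false

open CategoryTheory CategoryTheory.Limits CochainComplex HomologicalComplex

universe v u

namespace Groth.Agent.PCohLib.Ext

variable {C : Type u} [Category.{v} C] [Abelian C]
variable {E F : CochainComplex C ℤ} (u : E ⟶ F) {T : CochainComplex C ℤ} (j : T ⟶ mappingCone u)

/-- The component of `j` towards `E`. -/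
noncomputable def a (i k : ℤ) (h : i + 1 = k) : T.X i ⟶ E.X k :=
  j.f i ≫ (mappingCone.fst u).1.v i k h

/-- The component of `j` towards `F`. -/
noncomputable def b (i : ℤ) : T.X i ⟶ F.X i := j.f i ≫ (mappingCone.snd u).v i i (add_zero i)

lemma a_d (i k l : ℤ) (h : i + 1 = k) (h' : k + 1 = l) :
    a u j i k h ≫ E.d k l = -(T.d i k ≫ a u j k l h') := by
  rw [a, a, ← Category.assoc (T.d i k), ← j.comm, Category.assoc, Category.assoc, mappingCone.d_fst_v u i k l h h',
    Preadditive.comp_neg, neg_neg]

lemma b_d (i k : ℤ) (h : i + 1 = k) :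
    b u j i ≫ F.d i k = T.d i k ≫ b u j k - a u j i k h ≫ u.f k := by
  rw [b, b, a, ← Category.assoc (T.d i k), ← j.comm, Category.assoc, Category.assoc, mappingCone.d_snd_v u i k h,
    Category.assoc, ← Preadditive.comp_sub, add_sub_cancel_left]

/-- The extended complex. -/
noncomputable def cx : CochainComplex C ℤ :=
  CochainComplex.of (fun i => E.X i ⊞ T.X i)
    (fun i => biprod.desc (E.d i (i + 1) ≫ biprod.inl)
      (-(a u j i (i + 1) rfl ≫ biprod.inl) + T.d i (i + 1) ≫ biprod.inr))
    (fun i => by
      apply biprod.hom_ext'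
      · simp
      · simp only [biprod.inr_desc_assoc, Preadditive.add_comp, Preadditive.neg_comp, Category.assoc,
          biprod.inl_desc, biprod.inr_desc, Preadditive.comp_add, Preadditive.comp_neg, comp_zero]
        rw [reassoc_of% (a_d u j i (i + 1) (i + 1 + 1) rfl rfl)]
        simp)

lemma cx_d (i : ℤ) : (cx u j).d i (i + 1) = biprod.desc (E.d i (i + 1) ≫ biprod.inl)
      (-(a u j i (i + 1) rfl ≫ biprod.inl) + T.d i (i + 1) ≫ biprod.inr) :=
  by simp [cx]

/-- The inclusion. -/
noncomputable def v : E ⟶ cx u j where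
  f i := biprod.inl
  comm' i k h := by
    obtain rfl : i + 1 = k := h
    rw [cx_d]
    exact biprod.inl_desc _ _

/-- The extended map. -/
noncomputable def map : cx u j ⟶ F where
  f i := biprod.desc (u.f i) (b u j i)
  comm' i k h := by
    obtain rfl : i + 1 = k := h
    rw [cx_d]
    show biprod.desc (u.f i) (b u j i) ≫ F.d i (i + 1) = _ ≫ biprod.desc (u.f (i + 1)) (b u j (i + 1))
    apply biprod.hom_ext'
    · simp
    · simp only [biprod.inr_desc_assoc, Preadditive.add_comp, Preadditive.neg_comp, Category.assoc,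
        biprod.inl_desc, biprod.inr_desc]
      rw [b_d u j i (i + 1) rfl]
      abel

lemma v_map : v u j ≫ map u j = u := by
  ext i
  exact biprod.inl_desc _ _

lemma mono_v (i : ℤ) : Mono ((v u j).f i) := inferInstanceAs (Mono (biprod.inl : E.X i ⟶ E.X i ⊞ T.X i))

lemma isIso_v (i : ℤ) (h : IsZero (T.X i)) : IsIso ((v u j).f i) :=
  ⟨⟨biprod.fst, biprod.inl_fst, biprod.hom_ext _ _ (by simp [v]) (h.eq_of_tgt _ _)⟩⟩

/-- The cokernel of the inclusion is the added complex. -/
noncomputable def cokerIso (i : ℤ) : cokernel ((v u j).f i) ≅ T.X i where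
  hom := cokernel.desc _ biprod.snd biprod.inl_snd
  inv := biprod.inr ≫ cokernel.π ((v u j).f i)
  hom_inv_id := by
    ext
    rw [cokernel.π_desc_assoc, Category.comp_id]
    show (biprod.snd : E.X i ⊞ T.X i ⟶ _) ≫ biprod.inr ≫ cokernel.π ((v u j).f i) = _
    have h0 : (biprod.inl : E.X i ⟶ E.X i ⊞ T.X i) ≫ cokernel.π ((v u j).f i) = 0 := cokernel.condition ((v u j).f i)
    apply biprod.hom_ext'
    · rw [biprod.inl_snd_assoc, zero_comp, h0]
    · rw [biprod.inr_snd_assoc]
  inv_hom_id := by
    rw [Category.assoc, cokernel.π_desc]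
    exact biprod.inr_snd

/-- Comparison of the cones. -/
noncomputable def coneIso : mappingCone (map u j) ≅ mappingCone j :=
  Hom.isoOfComponents
    (fun i =>
      { hom := (mappingCone.fst (map u j)).1.v i (i + 1) rfl ≫
            ((biprod.snd : E.X (i + 1) ⊞ T.X (i + 1) ⟶ _) ≫ (mappingCone.inl j).v (i + 1) i (by omega) +
              (biprod.fst : E.X (i + 1) ⊞ T.X (i + 1) ⟶ _) ≫ (mappingCone.inl u).v (i + 1) i (by omega) ≫
                (mappingCone.inr j).f i) +
          (mappingCone.snd (map u j)).v i i (add_zero i) ≫ (mappingCone.inr u).f i ≫ (mappingCone.inr j).f i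
        inv := (mappingCone.fst j).1.v i (i + 1) rfl ≫
            (biprod.inr : T.X (i + 1) ⟶ E.X (i + 1) ⊞ T.X (i + 1)) ≫ (mappingCone.inl (map u j)).v (i + 1) i (by omega) +
          (mappingCone.snd j).v i i (add_zero i) ≫
            ((mappingCone.fst u).1.v i (i + 1) rfl ≫ (biprod.inl : E.X (i + 1) ⟶ E.X (i + 1) ⊞ T.X (i + 1)) ≫
                (mappingCone.inl (map u j)).v (i + 1) i (by omega) +
              (mappingCone.snd u).v i i (add_zero i) ≫ (mappingCone.inr (map u j)).f i)
        hom_inv_id := by
          refine mappingCone.ext_from _ (i + 1) i rfl ?_ ?_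
          · apply biprod.hom_ext' <;> simp <;> rfl
          · simp
        inv_hom_id := by
          refine mappingCone.ext_from _ (i + 1) i rfl ?_ ?_
          · simp
          · refine mappingCone.ext_from _ (i + 1) i rfl ?_ ?_ <;> simp })
    (fun i k h => by
      obtain rfl : i + 1 = k := h
      refine mappingCone.ext_from _ (i + 1) i rfl ?_ ?_
      · simp only [mappingCone.inl_v_d_assoc (map u j) (i + 1) i (i + 1 + 1) (by omega) (by omega)]
        simp only [Preadditive.comp_add, Preadditive.sub_comp, Preadditive.add_comp, Category.assoc,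
          mappingCone.inl_v_fst_v_assoc, mappingCone.inr_f_fst_v_assoc, mappingCone.inl_v_snd_v_assoc,
          mappingCone.inr_f_snd_v_assoc, zero_comp, comp_zero, add_zero, zero_add,
          mappingCone.inl_v_d j (i + 1) i (i + 1 + 1) (by omega) (by omega),
          mappingCone.inl_v_d_assoc u (i + 1) i (i + 1 + 1) (by omega) (by omega),
          mappingCone.inr_f_d, mappingCone.inr_f_d_assoc, cx_d]
        apply biprod.hom_ext'
        · simp [map]
          abel
        · simp [map, a, b]
          refine mappingCone.ext_to _ _ _ rfl ?_ ?_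
          · simp
          · refine mappingCone.ext_to _ _ _ rfl ?_ ?_ <;> simp
      · simp [mappingCone.inr_f_d_assoc])

theorem exactGE_map_iff (n : ℤ) : ExactGE (map u j) n ↔ ExactGE j n :=
  forall₂_congr fun i _ => ⟨fun h => h.of_iso (coneIso u j), fun h => h.of_iso (coneIso u j).symm⟩

end Groth.Agent.PCohLib.Ext
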