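import Groth.Agent.PCohLib.Apps

/-!
Pseudo-coherence along triangulated functors.
-/

set_option autoImplicit false
set_option linter.style.haveILetI false
set_option linter.unusedSectionVars false
set_option backward.isDefEq.respectTransparency false

open CategoryTheory CategoryTheory.Limits CochainComplex HomologicalComplex
open CategoryTheory.Pretriangulated DerivedCategory

universe w w' v v' u u'

namespace Groth.Agent.PCohLib

variable {C : Type u} [Category.{v} C] [Abelian C] [HasDerivedCategory.{w} C] {P : ObjectProperty C}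
  [P.IsClosedUnderIsomorphisms] [P.ContainsZero]
  {C' : Type u'} [Category.{v'} C'] [Abelian C'] [HasDerivedCategory.{w'} C'] {P' : ObjectProperty C'}
  [P'.IsClosedUnderIsomorphisms] [P'.ContainsZero]

/-- The top term of a bounded above complex gives a triangle. -/
theorem exists_peel (F : CochainComplex C ℤ) (b : ℤ) (hb : ∀ i, b < i → IsZero (F.X i)) :
    ∃ (F' : CochainComplex C ℤ) (f : (DerivedCategory.singleFunctor C b).obj (F.X b) ⟶ DerivedCategory.Q.obj F)
      (g : DerivedCategory.Q.obj F ⟶ DerivedCategory.Q.obj F')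
      (d : DerivedCategory.Q.obj F' ⟶ ((DerivedCategory.singleFunctor C b).obj (F.X b))⟦(1 : ℤ)⟧),
      Triangle.mk f g d ∈ distinguishedTriangles ∧ IsZero (F'.X b) ∧ ∀ i, i ≠ b → Nonempty (F.X i ≅ F'.X i) := by
  let S := (HomologicalComplex.single C (ComplexShape.up ℤ) b).obj (F.X b)
  let s : S ⟶ F := HomologicalComplex.mkHomFromSingle (𝟙 (F.X b)) fun i hi => by
    have hi' : b + 1 = i := hi
    exact (hb i (by omega)).eq_of_tgt _ _
  haveI hsm : ∀ i, Mono (s.f i) := fun i => by
    by_cases hi : i = b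
    · subst hi
      simp only [s, HomologicalComplex.mkHomFromSingle_f]
      infer_instance
    · exact ⟨fun u v _ => (HomologicalComplex.isZero_single_obj_X (ComplexShape.up ℤ) b (F.X b) i hi).eq_of_tgt u v⟩
  haveI : Mono s := HomologicalComplex.mono_of_mono_f s hsm
  let T := ShortComplex.mk s (cokernel.π s) (cokernel.condition s)
  have hT : T.ShortExact := { exact := ShortComplex.exact_of_g_is_cokernel _ (cokernelIsCokernel s) }
  have heq : ∀ i, ((T.map (HomologicalComplex.eval C (ComplexShape.up ℤ) i))).ShortExact :=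
    fun i => hT.map_of_exact (HomologicalComplex.eval C (ComplexShape.up ℤ) i)
  refine ⟨cokernel s, _, _, _, DerivedCategory.triangleOfSES_distinguished hT, (heq b).isIso_f_iff.mp ?_, fun i hi => ?_⟩
  · show IsIso (s.f b)
    simp only [s, HomologicalComplex.mkHomFromSingle_f]
    infer_instance
  · haveI : IsIso ((cokernel.π s).f i) :=
      (heq i).isIso_g_iff.mpr (HomologicalComplex.isZero_single_obj_X (ComplexShape.up ℤ) b (F.X b) i hi)
    exact ⟨asIso ((cokernel.π s).f i)⟩

variable (u : DerivedCategory C ⥤ DerivedCategory C') [u.CommShift ℤ] [u.IsTriangulated]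

theorem isZero_H_map_of_le (b : ℤ)
    (hii : ∀ F : DerivedCategory C, (∀ i : ℤ, 0 < i → IsZero ((DerivedCategory.homologyFunctor C i).obj F)) →
      ∀ i : ℤ, b < i → IsZero ((DerivedCategory.homologyFunctor C' i).obj (u.obj F)))
    (n : ℤ) (F : DerivedCategory C) (hF : ∀ i : ℤ, n < i → IsZero ((DerivedCategory.homologyFunctor C i).obj F))
    (i : ℤ) (hi : n + b < i) : IsZero ((DerivedCategory.homologyFunctor C' i).obj (u.obj F)) := by
  have h := hii ((CategoryTheory.shiftFunctor (DerivedCategory C) n).obj F) (fun j hj =>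
    (hF (n + j) (by omega)).of_iso (((DerivedCategory.homologyFunctor C 0).shiftIso n j (n + j) rfl).app F))
    (i - n) (by omega)
  exact h.of_iso ((((DerivedCategory.homologyFunctor C' 0).shiftIso n (i - n) i (by omega)).app (u.obj F)).symm ≪≫
    (DerivedCategory.homologyFunctor C' (i - n)).mapIso ((u.commShiftIso n).app F).symm)

theorem pcn_map_bounded (hsum' : ∀ X Y : C', P' X → P' Y → P' (X ⨯ Y)) (hqs' : PCoh.IsQuasiStableUnderKernels P')
    (hql' : PCoh.IsQuasiLiftable P') (a : ℤ)
    (hi : ∀ E : C, P E → ∃ E' : CochainComplex C' ℤ, PCoh.IsStrictPC P' a E' ∧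
      Nonempty (DerivedCategory.Q.obj E' ≅ u.obj ((DerivedCategory.singleFunctor C 0).obj E)))
    (n : ℤ) : ∀ (k : ℕ) (n' : ℤ) (E : CochainComplex C ℤ), n' ≤ n → (∀ i, n' < i ∨ i ≤ n' - k → IsZero (E.X i)) →
      (∀ i, P (E.X i)) → PCn P' (n + a) (u.obj (DerivedCategory.Q.obj E))
  | 0, n', E, _, hz, _ => by
    refine pcn_of_isZero _ _ fun i _ => (DerivedCategory.homologyFunctor C' i).map_isZero (u.map_isZero ?_)
    refine DerivedCategory.Q.map_isZero ?_
    rw [IsZero.iff_id_eq_zero]
    ext j
    exact (hz j (by omega)).eq_of_src _ _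
  | k + 1, n', E, hn', hz, hP => by
    obtain ⟨E', f, g, d, hT, hEb, hEi⟩ := exists_peel E n' fun i hi => hz i (Or.inl hi)
    refine pcn_middle hsum' hqs' hql' (u.map_distinguished _ hT) ?_ ?_
    · refine pcn_of_iso (u.mapIso (singleShift (E.X n') n')) (pcn_of_iso ((u.commShiftIso (-n')).app _).symm ?_)
      exact pcn_mono (show n' + a ≤ n + a by omega) (pcn_shift (hi _ (hP n')) (-n') (n' + a) (by omega))
    · refine pcn_map_bounded hsum' hqs' hql' a hi n k (n' - 1) E' (by omega) (fun i hi' => ?_) (fun i => ?_)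
      · rcases eq_or_ne i n' with rfl | hne
        · exact hEb
        · obtain ⟨e⟩ := hEi i hne
          exact (hz i (by omega)).of_iso e.symm
      · rcases eq_or_ne i n' with rfl | hne
        · exact P.prop_of_isZero hEb
        · obtain ⟨e⟩ := hEi i hne
          exact P.prop_of_iso e (hP i)

theorem pcn_map (hsum : ∀ X Y : C, P X → P Y → P (X ⨯ Y)) (hqs : PCoh.IsQuasiStableUnderKernels P)
    (hql : PCoh.IsQuasiLiftable P) (hsum' : ∀ X Y : C', P' X → P' Y → P' (X ⨯ Y))
    (hqs' : PCoh.IsQuasiStableUnderKernels P') (hql' : PCoh.IsQuasiLiftable P') (a b : ℤ)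
    (hi : ∀ E : C, P E → ∃ E' : CochainComplex C' ℤ, PCoh.IsStrictPC P' a E' ∧
      Nonempty (DerivedCategory.Q.obj E' ≅ u.obj ((DerivedCategory.singleFunctor C 0).obj E)))
    (hii : ∀ F : DerivedCategory C, (∀ i : ℤ, 0 < i → IsZero ((DerivedCategory.homologyFunctor C i).obj F)) →
      ∀ i : ℤ, b < i → IsZero ((DerivedCategory.homologyFunctor C' i).obj (u.obj F)))
    (m n : ℤ) (F : DerivedCategory C) (hF : PCn P m F)
    (hac : ∀ i : ℤ, n < i → IsZero ((DerivedCategory.homologyFunctor C i).obj F)) :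
    PCn P' (max (m + b) (n + a)) (u.obj F) := by
  let Y := DerivedCategory.Q.objPreimage F
  let e : DerivedCategory.Q.obj Y ≅ F := DerivedCategory.Q.objObjPreimageIso F
  let Z : CochainComplex C ℤ := HomologicalComplex.zero
  have hZ : ∀ i, IsZero (Z.X i) := fun i =>
    (HomologicalComplex.eval C (ComplexShape.up ℤ) i).map_isZero HomologicalComplex.isZero_zero
  obtain ⟨E, v, g, -, hE, -, hiso, hl, hx⟩ := exists_down hsum hql
    (coneFT_of_pcn hsum hqs hql (pcn_of_iso e.symm hF)) (n + 1 - m).toNat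
    (0 : Z ⟶ Y) ⟨⟨0, fun i _ => hZ i⟩, fun i _ => P.prop_of_isZero (hZ i)⟩
    (exactGE_of_zero _ _ hZ fun i hi => exactAt_of_iso_Q e (hac i (by omega)))
  have hzE : ∀ i, i < m ∨ m + (n + 1 - m).toNat ≤ i → IsZero (E.X i) := by
    rintro i (hin | hin)
    · haveI := hl i hin
      exact (hZ i).of_iso (asIso (v.f i)).symm
    · haveI := hiso i hin
      exact (hZ i).of_iso (asIso (v.f i)).symm
  have hPE : ∀ i, P (E.X i) := fun i => by
    rcases lt_or_ge i m with hin | hin
    · exact P.prop_of_isZero (hzE i (Or.inl hin))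
    · exact hE.2 i hin
  refine pcn_of_iso (u.mapIso e) (pcn_middle hsum' hqs' hql'
    (u.map_distinguished _ (DerivedCategory.mappingCone_triangle_distinguished g)) ?_ ?_)
  · exact pcn_mono (le_max_right _ _) (pcn_map_bounded u hsum' hqs' hql' a hi n (n + 1 - m).toNat n E le_rfl
      (fun i hi => hzE i (by omega)) hPE)
  · exact pcn_of_isZero _ _ fun i hi' => isZero_H_map_of_le u b hii (m - 1) _
      (fun j hj => (isZero_H_iff _ j).mpr (hx j (by omega))) i (by have := le_max_left (m + b) (n + a); omega)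

end Groth.Agent.PCohLib
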