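import Groth.Agent.PCohLib.Derived

/-!
Inductive arguments on pseudo-coherent objects.
-/

set_option autoImplicit false
set_option linter.style.haveILetI false
set_option linter.unusedSectionVars false
set_option backward.isDefEq.respectTransparency false

open CategoryTheory CategoryTheory.Limits CochainComplex HomologicalComplex
open CategoryTheory.Pretriangulated DerivedCategory

universe w v u

namespace Groth.Agent.PCohLib

variable {C : Type u} [Category.{v} C] [Abelian C] [HasDerivedCategory.{w} C] {P : ObjectProperty C}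
  [P.IsClosedUnderIsomorphisms] [P.ContainsZero]
  (hsum : ∀ X Y : C, P X → P Y → P (X ⨯ Y)) (hqs : PCoh.IsQuasiStableUnderKernels P) (hql : PCoh.IsQuasiLiftable P)

local notation "H" => DerivedCategory.homologyFunctor C

/-- Changing the degree of a single object. -/
noncomputable def singleShift (X : C) (i : ℤ) :
    (CategoryTheory.shiftFunctor (DerivedCategory C) (-i)).obj ((DerivedCategory.singleFunctor C 0).obj X) ≅ (DerivedCategory.singleFunctor C i).obj X :=
  ((DerivedCategory.singleFunctors C).shiftIso (-i) i 0 (by omega)).app X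

lemma pcn_single_shift {n : ℤ} {X : C} (i : ℤ) (h : PCn P (n - i) ((DerivedCategory.singleFunctor C 0).obj X)) :
    PCn P n ((DerivedCategory.singleFunctor C i).obj X) :=
  pcn_of_iso (singleShift X i) (pcn_shift h (-i) n (by omega))

omit [P.IsClosedUnderIsomorphisms] [P.ContainsZero] in
lemma isZero_H_single (X : C) (i j : ℤ) (h : j ≠ i) : IsZero ((H j).obj ((DerivedCategory.singleFunctor C i).obj X)) := by
  rcases lt_or_gt_of_ne h with h | h
  · exact DerivedCategory.isZero_of_isGE _ i j h
  · exact DerivedCategory.isZero_of_isLE _ i j h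

include hsum hql in
theorem pcn_single_of_ft {X : C} (h : PCoh.IsOfFiniteType P X) : PCn P 0 ((DerivedCategory.singleFunctor C 0).obj X) :=
  pcn_of_ft hsum hql 0 _ (fun i hi => isZero_H_single X 0 i hi.ne')
    (ft_of_iso ((DerivedCategory.singleFunctorCompHomologyFunctorIso C 0).app X).symm h)

include hqs in
theorem ft_of_pcn_single {X : C} (h : PCn P 0 ((DerivedCategory.singleFunctor C 0).obj X)) : PCoh.IsOfFiniteType P X :=
  ft_of_iso ((DerivedCategory.singleFunctorCompHomologyFunctorIso C 0).app X)
    (ft_of_pcn hqs h fun i hi => isZero_H_single X 0 i hi.ne')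

lemma pcn_single_of_mem {X : C} (h : P X) (n : ℤ) : PCn P n ((DerivedCategory.singleFunctor C 0).obj X) := by
  refine ⟨(HomologicalComplex.single C (ComplexShape.up ℤ) 0).obj X, ⟨⟨0, fun i hi => ?_⟩, fun i _ => ?_⟩, ⟨Iso.refl _⟩⟩
  · exact HomologicalComplex.isZero_single_obj_X _ _ _ _ hi.ne'
  · by_cases hi : i = 0
    · subst hi
      exact P.prop_of_iso (HomologicalComplex.singleObjXSelf _ _ X).symm h
    · exact P.prop_of_isZero (HomologicalComplex.isZero_single_obj_X _ _ _ _ hi)

include hsum hqs hql in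
/-- Pseudo-coherence from the homology. -/
theorem pcn_of_homology (n : ℤ) : ∀ (k : ℕ) (F : DerivedCategory C),
    (∀ i : ℤ, n + k ≤ i → IsZero ((H i).obj F)) →
    (∀ i : ℤ, n ≤ i → PCn P (n - i) ((DerivedCategory.singleFunctor C 0).obj ((H i).obj F))) → PCn P n F
  | 0, F, hb, _ => pcn_of_isZero n F fun i hi => hb i (by omega)
  | k + 1, F, hb, hfp => by
    obtain ⟨A, B, hA, hB, f, g, d, hT⟩ :=
      Triangulated.TStructure.exists_triangle (t := TStructure.t) F (n + k - 1) (n + k) (by omega)
    haveI : A.IsLE (n + k - 1) := ⟨hA⟩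
    haveI : B.IsGE (n + k) := ⟨hB⟩
    have hz : ∀ i, n + k ≤ i → IsZero ((H i).obj A) := fun i hi => DerivedCategory.isZero_of_isLE A (n + k - 1) i (by omega)
    have hgiso : ∀ i, n + k ≤ i → IsIso ((H i).map g) := fun i hi => by
      haveI : Mono ((H i).map g) :=
        (HomologySequence.mono_homologyMap_mor₂_iff _ hT i).mpr ((hz i hi).eq_of_src _ _)
      haveI : Epi ((H i).map g) :=
        (HomologySequence.epi_homologyMap_mor₂_iff _ hT i (i + 1) rfl).mpr ((hz (i + 1) (by omega)).eq_of_tgt _ _)
      exact isIso_of_mono_of_epi _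
    haveI : B.IsLE (n + k) := (DerivedCategory.isLE_iff _ _).mpr fun i hi => by
      haveI := hgiso i hi.le
      exact (hb i (by omega)).of_iso (asIso ((H i).map g)).symm
    obtain ⟨Y, ⟨eY⟩⟩ := DerivedCategory.exists_iso_singleFunctor_obj_of_isGE_of_isLE B (n + k)
    haveI := hgiso (n + k) le_rfl
    have eH : (H (n + k)).obj F ≅ Y := asIso ((H (n + k)).map g) ≪≫ (H (n + k)).mapIso eY ≪≫
      (DerivedCategory.singleFunctorCompHomologyFunctorIso C (n + k)).app Y
    have hBpc : PCn P n B := pcn_of_iso eY.symm (pcn_single_shift (n + k)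
      (pcn_of_iso ((DerivedCategory.singleFunctor C 0).mapIso eH) (hfp (n + k) (by omega))))
    refine pcn_middle hsum hqs hql hT (pcn_of_homology n k A hz fun i hi => ?_) hBpc
    by_cases hik : n + k ≤ i
    · exact pcn_of_isZero _ _ fun j _ => (H j).map_isZero ((DerivedCategory.singleFunctor C 0).map_isZero (hz i hik))
    · haveI : Epi ((H i).map f) :=
        (HomologySequence.epi_homologyMap_mor₁_iff _ hT i).mpr
          ((DerivedCategory.isZero_of_isGE B (n + k) i (by omega)).eq_of_tgt _ _)
      haveI : Mono ((H i).map f) :=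
        (HomologySequence.mono_homologyMap_mor₁_iff _ hT (i - 1) i (by omega)).mpr
          ((DerivedCategory.isZero_of_isGE B (n + k) (i - 1) (by omega)).eq_of_src _ _)
      haveI := isIso_of_mono_of_epi ((H i).map f)
      exact pcn_of_iso ((DerivedCategory.singleFunctor C 0).mapIso (asIso ((H i).map f)).symm) (hfp i hi)

include hsum hqs hql in
theorem pcn_of_homology' (n b : ℤ) (F : DerivedCategory C) (hb : ∀ i : ℤ, b < i → IsZero ((H i).obj F))
    (hfp : ∀ i : ℤ, n ≤ i → PCn P (n - i) ((DerivedCategory.singleFunctor C 0).obj ((H i).obj F))) : PCn P n F :=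
  pcn_of_homology hsum hqs hql n (b + 1 - n).toNat F (fun i hi => hb i (by omega)) hfp

include hsum hqs hql in
/-- Pseudo-coherence from the terms. -/
theorem pcn_of_terms (n : ℤ) : ∀ (k : ℕ) (F : CochainComplex C ℤ),
    (∀ i : ℤ, n + k ≤ i → IsZero (F.X i)) →
    (∀ i : ℤ, n ≤ i → PCn P (n - i) ((DerivedCategory.singleFunctor C 0).obj (F.X i))) → PCn P n (DerivedCategory.Q.obj F)
  | 0, F, hb, _ => pcn_of_isZero n _ fun i hi => (isZero_H_iff F i).mpr (exactAt_of_isZero (hb i (by omega)))
  | k + 1, F, hb, hfp => by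
    let b := n + (k : ℤ)
    let S := (HomologicalComplex.single C (ComplexShape.up ℤ) b).obj (F.X b)
    let s : S ⟶ F := HomologicalComplex.mkHomFromSingle (𝟙 (F.X b)) fun i hi => by
      have hi' : b + 1 = i := hi
      exact (hb i (by omega)).eq_of_tgt _ _
    haveI hsm : ∀ i, Mono (s.f i) := fun i => by
      by_cases hi : i = b
      · subst hi
        simp only [s, HomologicalComplex.mkHomFromSingle_f]
        infer_instance
      · exact ⟨fun u v _ => (HomologicalComplex.isZero_single_obj_X (ComplexShape.up ℤ) b (F.X b) i hi).eq_of_tgt u v⟩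
    haveI : Mono s := HomologicalComplex.mono_of_mono_f s hsm
    let T := ShortComplex.mk s (cokernel.π s) (cokernel.condition s)
    have hT : T.ShortExact := { exact := ShortComplex.exact_of_g_is_cokernel _ (cokernelIsCokernel s) }
    have heq : ∀ i, ((T.map (HomologicalComplex.eval C (ComplexShape.up ℤ) i))).ShortExact :=
      fun i => hT.map_of_exact (HomologicalComplex.eval C (ComplexShape.up ℤ) i)
    have hq : ∀ i, i ≠ b → IsIso ((cokernel.π s).f i) := fun i hi =>
      (heq i).isIso_g_iff.mpr (HomologicalComplex.isZero_single_obj_X (ComplexShape.up ℤ) b (F.X b) i hi)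
    have hqb : IsZero ((cokernel s).X b) := by
      have he : IsIso (s.f b) := by
        simp only [s, HomologicalComplex.mkHomFromSingle_f]
        infer_instance
      exact (heq b).isIso_f_iff.mp he
    refine pcn_middle hsum hqs hql (DerivedCategory.triangleOfSES_distinguished hT)
      (pcn_single_shift b (hfp b (by omega)))
      (pcn_of_terms n k (cokernel s) (fun i hi => ?_) fun i hi => ?_)
    · by_cases hib : i = b
      · exact hib ▸ hqb
      · haveI := hq i hib
        exact (hb i (by omega)).of_iso (asIso ((cokernel.π s).f i)).symm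
    · by_cases hib : i = b
      · subst hib
        exact pcn_of_isZero _ _ fun j _ => (H j).map_isZero ((DerivedCategory.singleFunctor C 0).map_isZero hqb)
      · haveI := hq i hib
        exact pcn_of_iso ((DerivedCategory.singleFunctor C 0).mapIso (asIso ((cokernel.π s).f i))) (hfp i hi)

include hsum hqs hql in
theorem pcn_of_terms' (n b : ℤ) (F : CochainComplex C ℤ) (hb : ∀ i : ℤ, b < i → IsZero (F.X i))
    (hfp : ∀ i : ℤ, n ≤ i → PCn P (n - i) ((DerivedCategory.singleFunctor C 0).obj (F.X i))) : PCn P n (DerivedCategory.Q.obj F) :=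
  pcn_of_terms hsum hqs hql n (b + 1 - n).toNat F (fun i hi => hb i (by omega)) hfp

include hsum hqs hql in
lemma pcn_left_step {n : ℤ} {A B : DerivedCategory C} [HasBinaryBiproduct A B] (h : PCn P n (A ⊞ B))
    (hA : PCn P (n + 2) A) : PCn P n A := by
  obtain ⟨Z, g, d, hZ⟩ := distinguished_cocone_triangle ((biprod.snd : A ⊞ B ⟶ B) ≫ (biprod.inr : B ⟶ A ⊞ B))
  have hZpc : PCn P n Z := pcn_third hsum hqs hql hZ (pcn_mono (by omega) h) h
  have h₁₂ := rot_of_distTriang _ (binaryBiproductTriangle_distinguished A B)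
  have h₂₃ : Triangle.mk (biprod.inr : B ⟶ A ⊞ B) biprod.fst 0 ∈ distinguishedTriangles := by
    refine isomorphic_distinguished _ (binaryBiproductTriangle_distinguished B A) _
      (Triangle.isoMk _ _ (Iso.refl _) (biprod.braiding A B) (Iso.refl _) ?_ ?_ ?_)
    · dsimp [binaryBiproductTriangle]
      apply biprod.hom_ext <;> simp
    · dsimp [binaryBiproductTriangle]
      rw [Category.comp_id]
      exact (biprod.lift_snd _ _).symm
    · dsimp [binaryBiproductTriangle]
      simp
  let O := Triangulated.someOctahedron (u₁₂ := (biprod.snd : A ⊞ B ⟶ B)) (u₂₃ := (biprod.inr : B ⟶ A ⊞ B)) rfl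
    h₁₂ h₂₃ hZ
  exact pcn_third hsum hqs hql O.mem (pcn_shift hA 1 (n + 1) (by omega)) hZpc

include hsum hqs hql in
theorem pcn_left (n : ℤ) : ∀ (k : ℕ) (A B : DerivedCategory C) [HasBinaryBiproduct A B] (b : ℤ),
    b - n < k → (∀ i : ℤ, b < i → IsZero ((H i).obj A)) → PCn P n (A ⊞ B) → PCn P n A := by
  intro k
  induction k generalizing n with
  | zero => intro A B _ b hk hb _; exact pcn_of_isZero n A fun i hi => hb i (by omega)
  | succ k ih =>
    intro A B _ b hk hb h
    exact pcn_left_step hsum hqs hql h (ih (n + 2) A B b (by omega) hb (pcn_mono (by omega) h))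

include hsum hqs hql in
theorem pcn_biprod_iff (n : ℤ) (A B : DerivedCategory C) [HasBinaryBiproduct A B] :
    PCn P n (A ⊞ B) ↔ PCn P n A ∧ PCn P n B := by
  constructor
  · intro h
    obtain ⟨b, hb⟩ := bdd_of_pcn h
    have hzA : ∀ i, b < i → IsZero ((H i).obj A) := fun i hi => by
      rw [IsZero.iff_id_eq_zero, ← CategoryTheory.Functor.map_id, ← biprod.inl_fst (Y := B), Functor.map_comp,
        (hb i hi).eq_of_tgt ((H i).map (biprod.inl : A ⟶ A ⊞ B)) 0, zero_comp]
    have hzB : ∀ i, b < i → IsZero ((H i).obj B) := fun i hi => by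
      rw [IsZero.iff_id_eq_zero, ← CategoryTheory.Functor.map_id, ← biprod.inr_snd (X := A), Functor.map_comp,
        (hb i hi).eq_of_tgt ((H i).map (biprod.inr : B ⟶ A ⊞ B)) 0, zero_comp]
    refine ⟨pcn_left hsum hqs hql n (b + 1 - n).toNat A B b (by omega) hzA h, ?_⟩
    exact pcn_left hsum hqs hql n (b + 1 - n).toNat B A b (by omega) hzB (pcn_of_iso (biprod.braiding A B) h)
  · rintro ⟨h₁, h₂⟩
    exact pcn_middle hsum hqs hql (binaryBiproductTriangle_distinguished A B) h₁ h₂

/-- The first object of a short exact sequence, in degree zero. -/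
theorem pcn_single_first (hsum : ∀ X Y : C, P X → P Y → P (X ⨯ Y)) (hqs : PCoh.IsQuasiStableUnderKernels P)
    (hql : PCoh.IsQuasiLiftable P) {S : ShortComplex C} (hS : S.ShortExact) {n : ℤ}
    (h₂ : PCn P (n + 1) ((DerivedCategory.singleFunctor C 0).obj S.X₂)) (h₃ : PCn P n ((DerivedCategory.singleFunctor C 0).obj S.X₃)) :
    PCn P (n + 1) ((DerivedCategory.singleFunctor C 0).obj S.X₁) :=
  pcn_first hsum hqs hql (ShortComplex.ShortExact.singleTriangle_distinguished hS) h₂ h₃

/-- The third object of a short exact sequence, in degree zero. -/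
theorem pcn_single_third (hsum : ∀ X Y : C, P X → P Y → P (X ⨯ Y)) (hqs : PCoh.IsQuasiStableUnderKernels P)
    (hql : PCoh.IsQuasiLiftable P) {S : ShortComplex C} (hS : S.ShortExact) {n : ℤ}
    (h₁ : PCn P (n + 1) ((DerivedCategory.singleFunctor C 0).obj S.X₁)) (h₂ : PCn P n ((DerivedCategory.singleFunctor C 0).obj S.X₂)) :
    PCn P n ((DerivedCategory.singleFunctor C 0).obj S.X₃) :=
  pcn_third hsum hqs hql (ShortComplex.ShortExact.singleTriangle_distinguished hS) h₁ h₂

omit [HasDerivedCategory.{w} C] in
lemma shortExact_kernel {X Y : C} (f : X ⟶ Y) [Epi f] :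
    (ShortComplex.mk (kernel.ι f) f (kernel.condition f)).ShortExact where
  exact := ShortComplex.exact_of_f_is_kernel _ (kernelIsKernel f)

end Groth.Agent.PCohLib
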