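import Groth.Agent.PCohLib.Infinite

/-!
Perfect complexes relative to a liftable class stable under kernels of epimorphisms.
-/

set_option autoImplicit false
set_option linter.style.haveILetI false
set_option linter.unusedSectionVars false
set_option backward.isDefEq.respectTransparency false

open CategoryTheory CategoryTheory.Limits CochainComplex HomologicalComplex
open CategoryTheory.Pretriangulated DerivedCategory

universe w v u

namespace Groth.Agent.PCohLib

variable {C : Type u} [Category.{v} C] [Abelian C] {P : ObjectProperty C}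
  [P.IsClosedUnderIsomorphisms] [P.ContainsZero]
  (hsum : ∀ X Y : C, P X → P Y → P (X ⨯ Y))
  (hlift : ∀ (E F : C) (u : E ⟶ F), Epi u → P F → IsSplitEpi u)
  (hst : ∀ (E F : C) (u : E ⟶ F), Epi u → P E → P F → P (kernel u))

include hlift in
lemma projective_of_mem {X : C} (hX : P X) : Projective X where
  factors {E Y} f e _ := by
    haveI := hlift (pullback f e) X (pullback.fst f e) inferInstance hX
    refine ⟨section_ (pullback.fst f e) ≫ pullback.snd f e, ?_⟩
    rw [Category.assoc, ← pullback.condition, IsSplitEpi.id_assoc]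

include hlift in
lemma quasiLiftable_of_lift : PCoh.IsQuasiLiftable P := by
  intro E F u hu hF
  haveI := hlift E F u hu hF
  exact ⟨F, section_ u, hF, by rw [IsSplitEpi.id]; infer_instance⟩

lemma shortExact_cycles {ι : Type*} {c : ComplexShape ι} (K : HomologicalComplex C c) (i j : ι)
    (hij : c.Rel i j) (h : K.ExactAt j) :
    (ShortComplex.mk (K.iCycles i) (K.toCycles i j)
      (by rw [← cancel_mono (K.iCycles j)]; simp)).ShortExact := by
  haveI : Epi (K.toCycles i j) := by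
    rw [exactAt_iff' K i j (c.next j) (c.prev_eq' hij) rfl] at h
    rw [epi_iff_surjective_up_to_refinements]
    intro A y
    obtain ⟨A', q, hq, x, hx⟩ := h.exact_up_to_refinements (y ≫ K.iCycles j) (by simp)
    refine ⟨A', q, hq, x, ?_⟩
    rw [← cancel_mono (K.iCycles j)]
    simpa using hx
  exact
    { exact := by
        refine ShortComplex.exact_of_f_is_kernel _ (KernelFork.IsLimit.ofι' _ _ fun k hk => ⟨K.liftCycles k j
          (c.next_eq' hij) ?_, K.liftCycles_i _ _ _ _⟩)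
        have := congrArg (· ≫ K.iCycles j) hk
        simpa using this }

include hst in
/-- The first object of a short exact sequence with the other two in `P`. -/
lemma mem_first {S : ShortComplex C} (hS : S.ShortExact) (h₂ : P S.X₂) (h₃ : P S.X₃) : P S.X₁ :=
  haveI := hS.mono_f
  haveI := hS.epi_g
  P.prop_of_iso (IsLimit.conePointUniqueUpToIso (kernelIsKernel S.g) hS.fIsKernel)
    (hst _ _ S.g hS.epi_g h₂ h₃)

include hsum hlift in
/-- The middle object of a short exact sequence with the other two in `P`. -/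
lemma mem_middle {S : ShortComplex C} (hS : S.ShortExact) (h₁ : P S.X₁) (h₃ : P S.X₃) : P S.X₂ := by
  haveI := projective_of_mem hlift h₃
  exact P.prop_of_iso hS.splittingOfProjective.isoBinaryBiproduct.symm (prop_biprod hsum h₁ h₃)

include hst in
lemma cycles_mem (K : CochainComplex C ℤ) (m : ℤ) (hac : ∀ i, m < i → K.ExactAt i)
    (hP : ∀ i, m ≤ i → P (K.X i)) : ∀ (k : ℕ) (i : ℤ), m ≤ i → (∀ j, i + k ≤ j → IsZero (K.X j)) →
      P (K.cycles i) := by
  intro k
  induction k with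
  | zero =>
    intro i _ hz
    exact P.prop_of_isZero (IsZero.of_mono (K.iCycles i) (hz i (by omega)))
  | succ k ih =>
    intro i hi hz
    exact mem_first hst (shortExact_cycles K i (i + 1) (by simp) (hac _ (by omega))) (hP i hi)
      (ih (i + 1) (by omega) fun j hj => hz j (by omega))

include hst in
lemma cycles_mem' (K : CochainComplex C ℤ) (m b : ℤ) (hac : ∀ i, m < i → K.ExactAt i)
    (hP : ∀ i, m ≤ i → P (K.X i)) (hb : ∀ i, b < i → IsZero (K.X i)) (i : ℤ) (hi : m ≤ i) : P (K.cycles i) :=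
  cycles_mem hst K m hac hP (b + 1 - i).toNat i hi fun j hj => hb j (by omega)

include hst in
lemma quasiStable_of_stable : PCoh.IsQuasiStableUnderKernels P := by
  intro K hK ⟨N, hN⟩ hP
  refine ft_of_mem ?_
  have hcyc : ∀ (k i : ℕ), 1 ≤ i → N + 1 ≤ i + k → P (K.cycles i) := by
    intro k
    induction k with
    | zero => exact fun i _ hi => P.prop_of_isZero (IsZero.of_mono (K.iCycles i) (hN i (by omega)))
    | succ k ih =>
      intro i hi1 hi
      exact mem_first hst (shortExact_cycles K i (i + 1) (by simp) (hK _)) (hP i hi1)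
        (ih (i + 1) (by omega) (by omega))
  have hS := shortExact_cycles K 0 1 (by simp) (hK 1)
  haveI : Mono (K.d 0 1) := by
    have h0 := hK 0
    rw [exactAt_iff' K 0 0 1 (CochainComplex.prev_nat_zero) (by simp)] at h0
    exact (ShortComplex.exact_iff_mono _ (K.shape 0 0 (by simp))).mp h0
  haveI : Mono (K.toCycles 0 1) := mono_of_mono_fac (K.toCycles_i 0 1)
  haveI := hS.epi_g
  haveI : Epi (K.toCycles 0 1) := hS.epi_g
  haveI := isIso_of_mono_of_epi (K.toCycles 0 1)
  exact P.prop_of_iso (asIso (K.toCycles 0 1)).symm (hcyc N 1 le_rfl (by omega))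

section derived

variable [HasDerivedCategory.{w} C]

include hlift in
/-- Morphisms out of bounded above complexes with terms in `P` come from morphisms of complexes. -/
theorem exists_map_eq {E Y : CochainComplex C ℤ} (b : ℤ) (hb : ∀ i, b < i → IsZero (E.X i))
    (hP : ∀ i, P (E.X i)) (φ : DerivedCategory.Q.obj E ⟶ DerivedCategory.Q.obj Y) :
    ∃ f : E ⟶ Y, DerivedCategory.Q.map f = φ := by
  haveI : ∀ n : ℤ, Projective (E.X n) := fun n => projective_of_mem hlift (hP n)
  haveI : E.IsStrictlyLE b := (CochainComplex.isStrictlyLE_iff E b).mpr hb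
  haveI := CochainComplex.isKProjective_of_projective E b
  obtain ⟨g, hg⟩ := (CochainComplex.IsKProjective.Qh_map_bijective E
    ((HomotopyCategory.quotient C (ComplexShape.up ℤ)).obj Y)).surjective
      ((DerivedCategory.quotientCompQhIso C).hom.app E ≫ φ ≫ (DerivedCategory.quotientCompQhIso C).inv.app Y)
  obtain ⟨f, rfl⟩ := (HomotopyCategory.quotient C (ComplexShape.up ℤ)).map_surjective g
  refine ⟨f, ?_⟩
  rw [← cancel_epi ((DerivedCategory.quotientCompQhIso C).hom.app E),
    ← DerivedCategory.quotientCompQhIso_hom_naturality, hg]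
  simp

include hsum hlift in
theorem perfect_third {T : Triangle (DerivedCategory C)} (hT : T ∈ distinguishedTriangles)
    {E₁ E₂ : CochainComplex C ℤ} {a₁ b₁ a₂ b₂ : ℤ} (hz₁ : ∀ i : ℤ, i < a₁ ∨ b₁ < i → IsZero (E₁.X i))
    (hP₁ : ∀ i : ℤ, P (E₁.X i)) (e₁ : DerivedCategory.Q.obj E₁ ≅ T.obj₁)
    (hz₂ : ∀ i : ℤ, i < a₂ ∨ b₂ < i → IsZero (E₂.X i)) (hP₂ : ∀ i : ℤ, P (E₂.X i))
    (e₂ : DerivedCategory.Q.obj E₂ ≅ T.obj₂) :
    ∃ (E : CochainComplex C ℤ) (a b : ℤ), (∀ i : ℤ, i < a ∨ b < i → IsZero (E.X i)) ∧ (∀ i : ℤ, P (E.X i)) ∧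
      Nonempty (DerivedCategory.Q.obj E ≅ T.obj₃) := by
  obtain ⟨f, hf⟩ := exists_map_eq hlift b₁ (fun i hi => hz₁ i (Or.inr hi)) hP₁ (e₁.hom ≫ T.mor₁ ≫ e₂.inv)
  refine ⟨mappingCone f, min (a₁ - 1) a₂, max b₁ b₂, fun i hi => ?_, fun i => prop_cone hsum f i (hP₁ _) (hP₂ _),
    ⟨Triangle.π₃.mapIso (isoTriangleOfIso₁₂ _ T (DerivedCategory.mappingCone_triangle_distinguished f) hT
      e₁ e₂ ?_)⟩⟩
  · exact (mappingCone.isZero_X_iff f i).mpr ⟨hz₁ _ (by omega), hz₂ _ (by omega)⟩
  · show DerivedCategory.Q.map f ≫ e₂.hom = e₁.hom ≫ T.mor₁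
    rw [hf]; simp

include hst in
theorem exists_amplitude (a b c : ℤ) (hab : a ≤ b) (hac : a ≤ c) (F : CochainComplex C ℤ)
    (hP : ∀ i : ℤ, P (F.X i)) (hvan : ∀ i : ℤ, i < a ∨ c < i → IsZero (F.X i))
    (hcoh : ∀ i : ℤ, b < i → IsZero (F.homology i)) :
    ∃ F' : CochainComplex C ℤ, (∀ i : ℤ, P (F'.X i)) ∧ (∀ i : ℤ, i < a ∨ min b c < i → IsZero (F'.X i)) ∧
      Nonempty (DerivedCategory.Q.obj F' ≅ DerivedCategory.Q.obj F) := by
  have hex : ∀ i, min b c < i → F.ExactAt i := fun i hi => by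
    rcases le_or_gt i b with hib | hib
    · exact exactAt_of_isZero (hvan i (Or.inr (by omega)))
    · exact (exactAt_iff_isZero_homology _ _).mpr (hcoh i hib)
  haveI : F.IsLE (min b c) := (CochainComplex.isLE_iff F (min b c)).mpr hex
  have hbig : ∀ i, min b c < i → IsZero ((F.truncLE (min b c)).X i) := fun i hi =>
    CochainComplex.isZero_of_isStrictlyLE _ (min b c) i hi
  refine ⟨F.truncLE (min b c), fun i => ?_, fun i hi => ?_,
    ⟨asIso (DerivedCategory.Q.map (F.ιTruncLE (min b c)))⟩⟩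
  · rcases lt_trichotomy i (min b c) with hi | rfl | hi
    · exact P.prop_of_iso (F.truncLEXIso (min b c) i hi).symm (hP i)
    · exact P.prop_of_iso (F.truncLEXIsoCycles (min b c)).symm
        (cycles_mem' hst F (min b c) c hex (fun i _ => hP i) (fun i hi => hvan i (Or.inr hi)) _ le_rfl)
    · exact P.prop_of_isZero (hbig i hi)
  · rcases lt_or_ge (min b c) i with h | h
    · exact hbig i h
    · exact (hvan i (by omega)).of_iso (F.truncLEXIso (min b c) i (by omega))

include hsum hlift hst in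
theorem mem_bottom (a b : ℤ) (F : CochainComplex C ℤ)
    (hvan : ∀ i : ℤ, i < a ∨ b < i → IsZero (F.X i)) (hP : ∀ i : ℤ, a < i → P (F.X i))
    (E : CochainComplex C ℤ) (hE : ∀ i : ℤ, P (E.X i)) (hEz : ∀ i : ℤ, i < a ∨ b < i → IsZero (E.X i))
    (e : DerivedCategory.Q.obj E ≅ DerivedCategory.Q.obj F) : P (F.X a) := by
  obtain ⟨f, hf⟩ := exists_map_eq hlift b (fun i hi => hEz i (Or.inr hi)) hE e.hom
  haveI : IsIso (DerivedCategory.Q.map f) := by rw [hf]; infer_instance
  haveI : QuasiIso f := (DerivedCategory.isIso_Q_map_iff_quasiIso C f).mp inferInstance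
  let K := mappingCone f
  have hex : ∀ i, K.ExactAt i := fun i => (quasiIso_iff_exactGE f).mp inferInstance i i le_rfl
  have hlow : ∀ i, i < a - 1 → IsZero (K.X i) := fun i hi =>
    (mappingCone.isZero_X_iff f i).mpr ⟨hEz _ (by omega), hvan _ (by omega)⟩
  have hKP : ∀ i, a < i → P (K.X i) := fun i hi => prop_cone hsum f i (hE _) (hP i hi)
  have hK1 : P (K.X (a - 1)) := prop_cone hsum f _ (hE _) (P.prop_of_isZero (hvan _ (by omega)))
  have hZ0 : P (K.cycles a) := by
    have hS := shortExact_cycles K (a - 1) a (by simp) (hex a)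
    haveI : Mono (K.d (a - 1) a) := by
      have h := hex (a - 1)
      rw [exactAt_iff' K (a - 2) (a - 1) a (by simp; omega) (by simp)] at h
      exact (ShortComplex.exact_iff_mono _ ((hlow (a - 2) (by omega)).eq_of_src _ _)).mp h
    haveI : Mono (K.toCycles (a - 1) a) := mono_of_mono_fac (K.toCycles_i (a - 1) a)
    haveI : Epi (K.toCycles (a - 1) a) := hS.epi_g
    haveI := isIso_of_mono_of_epi (K.toCycles (a - 1) a)
    exact P.prop_of_iso (asIso (K.toCycles (a - 1) a)) hK1
  have hZ1 : P (K.cycles (a + 1)) :=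
    cycles_mem' hst K (a + 1) b (fun i _ => hex i) (fun i hi => hKP i (by omega))
      (fun i hi => (mappingCone.isZero_X_iff f i).mpr ⟨hEz _ (by omega), hvan _ (by omega)⟩) _ le_rfl
  have hKa : P (K.X a) := mem_middle hsum hlift (shortExact_cycles K a (a + 1) (by simp) (hex _)) hZ0 hZ1
  haveI := HomologicalComplex.HasHomotopyCofiber.hasBinaryBiproduct f a (a + 1) rfl
  have hB : P (E.X (a + 1) ⊞ F.X a) :=
    P.prop_of_iso (HomologicalComplex.homotopyCofiber.XIsoBiprod f a (a + 1) rfl) hKa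
  exact P.prop_of_iso (IsLimit.conePointUniqueUpToIso (kernelIsKernel _)
    (biprod.isKernelFstKernelFork (E.X (a + 1)) (F.X a))) (hst _ _ biprod.fst inferInstance hB (hE _))

include hsum in
theorem amplitude_biprod (a b : ℤ) {E' E'' : CochainComplex C ℤ} (hE' : ∀ i : ℤ, P (E'.X i))
    (hE'' : ∀ i : ℤ, P (E''.X i)) (hz' : ∀ i : ℤ, i < a ∨ b < i → IsZero (E'.X i))
    (hz'' : ∀ i : ℤ, i < a ∨ b < i → IsZero (E''.X i)) {F' F'' : DerivedCategory C} [HasBinaryBiproduct F' F'']
    (e' : DerivedCategory.Q.obj E' ≅ F') (e'' : DerivedCategory.Q.obj E'' ≅ F'') :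
    ∃ E : CochainComplex C ℤ, (∀ i : ℤ, P (E.X i)) ∧ (∀ i : ℤ, i < a ∨ b < i → IsZero (E.X i)) ∧
      Nonempty (DerivedCategory.Q.obj E ≅ (F' ⊞ F'')) := by
  haveI := preservesBinaryBiproducts_of_preservesBiproducts (DerivedCategory.Q (C := C))
  refine ⟨E' ⊞ E'', fun i => P.prop_of_iso ((HomologicalComplex.eval C (ComplexShape.up ℤ) i).mapBiprod E' E'').symm
    (prop_biprod hsum (hE' i) (hE'' i)), fun i hi => ?_,
    ⟨DerivedCategory.Q.mapBiprod E' E'' ≪≫ biprod.mapIso e' e''⟩⟩
  refine IsZero.of_iso ?_ ((HomologicalComplex.eval C (ComplexShape.up ℤ) i).mapBiprod E' E'')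
  rw [IsZero.iff_id_eq_zero]
  apply biprod.hom_ext
  · exact (hz' i hi).eq_of_tgt _ _
  · exact (hz'' i hi).eq_of_tgt _ _

include hsum hlift hst in
theorem exists_almost (a b : ℤ) {F : DerivedCategory C} (hF : PCoh.IsPC P F)
    (hh : ∀ i : ℤ, i < a ∨ b < i → IsZero ((DerivedCategory.homologyFunctor C i).obj F)) (hab : a ≤ b) :
    ∃ X : CochainComplex C ℤ, (∀ i : ℤ, a < i → P (X.X i)) ∧ (∀ i : ℤ, i < a ∨ b < i → IsZero (X.X i)) ∧
      Nonempty (DerivedCategory.Q.obj X ≅ F) := by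
  let Y := DerivedCategory.Q.objPreimage F
  let e : DerivedCategory.Q.obj Y ≅ F := DerivedCategory.Q.objObjPreimageIso F
  have hY : PCoh.IsPC P (DerivedCategory.Q.obj Y) := fun n => pcn_of_iso e.symm (hF n)
  obtain ⟨G, g, hG, hGz, hg⟩ := exists_resolution hsum (quasiLiftable_of_lift hlift)
    (quasiStable_of_stable hst) (b + 1) hY fun i hi => exactAt_of_iso_Q e (hh i (by omega))
  let e' : DerivedCategory.Q.obj G ≅ F := asIso (DerivedCategory.Q.map g) ≪≫ e
  haveI : G.IsGE a := (CochainComplex.isGE_iff G a).mpr fun i hi => exactAt_of_iso_Q e' (hh i (Or.inl hi))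
  refine ⟨G.truncGE a, fun i hi => P.prop_of_iso (G.truncGEXIso a i hi).symm (hG.2 i), ?_,
    ⟨(asIso (DerivedCategory.Q.map (G.πTruncGE a))).symm ≪≫ e'⟩⟩
  rintro i (hi | hi)
  · exact CochainComplex.isZero_of_isStrictlyGE _ a i hi
  · exact (hGz i (by omega)).of_iso (G.truncGEXIso a i (by omega))

include hsum hlift hst in
theorem amplitude_of_biprod (hfac : ∀ (E' E'' : C) [HasBinaryBiproduct E' E''], P (E' ⊞ E'') → P E' ∧ P E'')
    (a b : ℤ) (hab : a ≤ b) (F' F'' : DerivedCategory C) [HasBinaryBiproduct F' F'']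
    (E : CochainComplex C ℤ) (hE : ∀ i : ℤ, P (E.X i)) (hEz : ∀ i : ℤ, i < a ∨ b < i → IsZero (E.X i))
    (e : DerivedCategory.Q.obj E ≅ (F' ⊞ F'')) :
    (∃ E : CochainComplex C ℤ, (∀ i : ℤ, P (E.X i)) ∧ (∀ i : ℤ, i < a ∨ b < i → IsZero (E.X i)) ∧
        Nonempty (DerivedCategory.Q.obj E ≅ F')) ∧
      (∃ E : CochainComplex C ℤ, (∀ i : ℤ, P (E.X i)) ∧ (∀ i : ℤ, i < a ∨ b < i → IsZero (E.X i)) ∧
        Nonempty (DerivedCategory.Q.obj E ≅ F'')) := by
  have hpc : ∀ n, PCn P n (F' ⊞ F'') := fun n =>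
    ⟨E, ⟨⟨b, fun i hi => hEz i (Or.inr hi)⟩, fun i _ => hE i⟩, ⟨e⟩⟩
  have h2 := fun n => (pcn_biprod_iff hsum (quasiStable_of_stable hst) (quasiLiftable_of_lift hlift) n F' F'').mp (hpc n)
  have hh : ∀ i : ℤ, i < a ∨ b < i → IsZero ((DerivedCategory.homologyFunctor C i).obj (F' ⊞ F'')) := fun i hi =>
    ((exactAt_iff_isZero_homology _ _).mp (exactAt_of_isZero (hEz i hi))).of_iso (homIso e i).symm
  obtain ⟨X', hX', hzX', ⟨e'⟩⟩ := exists_almost hsum hlift hst a b (fun n => (h2 n).1) (fun i hi => by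
    rw [IsZero.iff_id_eq_zero, ← CategoryTheory.Functor.map_id, ← biprod.inl_fst (X := F') (Y := F''),
      Functor.map_comp, (hh i hi).eq_of_tgt ((DerivedCategory.homologyFunctor C i).map (biprod.inl : F' ⟶ F' ⊞ F'')) 0,
      zero_comp]) hab
  obtain ⟨X'', hX'', hzX'', ⟨e''⟩⟩ := exists_almost hsum hlift hst a b (fun n => (h2 n).2) (fun i hi => by
    rw [IsZero.iff_id_eq_zero, ← CategoryTheory.Functor.map_id, ← biprod.inr_snd (X := F') (Y := F''),
      Functor.map_comp, (hh i hi).eq_of_tgt ((DerivedCategory.homologyFunctor C i).map (biprod.inr : F'' ⟶ F' ⊞ F'')) 0,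
      zero_comp]) hab
  haveI := preservesBinaryBiproducts_of_preservesBiproducts (DerivedCategory.Q (C := C))
  let ev := fun i => (HomologicalComplex.eval C (ComplexShape.up ℤ) i).mapBiprod X' X''
  have hbot : P ((X' ⊞ X'').X a) := by
    refine mem_bottom hsum hlift hst a b (X' ⊞ X'') (fun i hi => ?_)
      (fun i hi => P.prop_of_iso (ev i).symm (prop_biprod hsum (hX' i hi) (hX'' i hi))) E hE hEz
      (e ≪≫ (DerivedCategory.Q.mapBiprod X' X'' ≪≫ biprod.mapIso e' e'').symm)
    refine IsZero.of_iso ?_ (ev i)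
    rw [IsZero.iff_id_eq_zero]
    apply biprod.hom_ext
    · exact (hzX' i hi).eq_of_tgt _ _
    · exact (hzX'' i hi).eq_of_tgt _ _
  have hsum' := hfac _ _ (P.prop_of_iso (ev a) hbot)
  refine ⟨⟨X', fun i => ?_, hzX', ⟨e'⟩⟩, ⟨X'', fun i => ?_, hzX'', ⟨e''⟩⟩⟩
  · rcases lt_trichotomy i a with h | rfl | h
    · exact P.prop_of_isZero (hzX' i (Or.inl h))
    · exact hsum'.1
    · exact hX' i h
  · rcases lt_trichotomy i a with h | rfl | h
    · exact P.prop_of_isZero (hzX'' i (Or.inl h))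
    · exact hsum'.2
    · exact hX'' i h

end derived

end Groth.Agent.PCohLib
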