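import Groth.Agent.PCohLib.Ext

/-!
Construction of strictly pseudo-coherent approximations.
-/

set_option autoImplicit false
set_option linter.style.haveILetI false
set_option linter.unusedSectionVars false
set_option backward.isDefEq.respectTransparency false

open CategoryTheory CategoryTheory.Limits CochainComplex HomologicalComplex
open CategoryTheory.Pretriangulated

universe w v u

namespace Groth.Agent.PCohLib

variable {C : Type u} [Category.{v} C] [Abelian C] {P : ObjectProperty C} [P.IsClosedUnderIsomorphisms]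
  [P.ContainsZero]

lemma isStrictPC_mono {n m : ℤ} (h : n ≤ m) {E : CochainComplex C ℤ} (hE : PCoh.IsStrictPC P n E) :
    PCoh.IsStrictPC P m E :=
  ⟨hE.1, fun i hi => hE.2 i (h.trans hi)⟩

omit [P.ContainsZero] in
/-- Homology in the bottom acyclic degree of a strictly pseudo-coherent complex. -/
theorem ft_homology (hqs : PCoh.IsQuasiStableUnderKernels P) (n : ℤ) (E : CochainComplex C ℤ)
    (hE : PCoh.IsStrictPC P n E) (hac : ∀ i : ℤ, n < i → E.ExactAt i) :
    PCoh.IsOfFiniteType P (E.homology n) := by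
  let K₀ : CochainComplex C ℕ :=
    CochainComplex.of (fun k => E.X (n + k)) (fun k => E.d (n + k) (n + (k + 1 : ℕ))) (fun k => E.d_comp_d _ _ _)
  have hd : ∀ k : ℕ, K₀.d k (k + 1) = E.d (n + k) (n + (k + 1 : ℕ)) := fun k => by simp [K₀]
  let K := CochainComplex.augment K₀ (E.iCycles n ≫ eqToHom (congrArg E.X (show n = n + ((0 : ℕ) : ℤ) by simp)))
    (by
      have : ∀ (m : ℤ) (hm : n = m) (l : ℤ), (E.iCycles n ≫ eqToHom (congrArg E.X hm)) ≫ E.d m l = 0 := by
        rintro m rfl l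
        simp
      refine Eq.trans ?_ (this (n + ((0 : ℕ) : ℤ)) (by simp) (n + ((0 + 1 : ℕ) : ℤ)))
      exact congrArg (_ ≫ ·) (hd 0))
  obtain ⟨b, hb⟩ := hE.1
  refine ft_of_epi (E.homologyπ n) (hqs K ?_ ⟨(b - n).toNat + 1, ?_⟩ ?_)
  · rintro (_ | _ | k)
    · rw [exactAt_iff' K 0 0 1 (CochainComplex.prev_nat_zero) (by simp)]
      rw [ShortComplex.exact_iff_mono _ (K.shape 0 0 (by simp))]
      exact inferInstanceAs (Mono (E.iCycles n ≫ eqToHom _))
    · rw [exactAt_iff' K 0 1 2 (by simp) (by simp)]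
      have h0 : n = n + ((0 : ℕ) : ℤ) := by simp
      rw [ShortComplex.exact_iff_exact_up_to_refinements]
      intro A x (hx : x ≫ K₀.d 0 1 = 0)
      rw [hd 0] at hx
      have key : ∀ (m : ℤ) (hm : n = m) (l : ℤ) (hl : m + 1 = l) (x : A ⟶ E.X m), x ≫ E.d m l = 0 →
          ∃ y, x = y ≫ E.iCycles n ≫ eqToHom (congrArg E.X hm) := by
        rintro m rfl l rfl x hx
        exact ⟨E.liftCycles x (n + 1) (by simp) hx, by simp⟩
      obtain ⟨y, hy⟩ := key _ h0 _ (by simp) x hx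
      exact ⟨A, 𝟙 A, inferInstance, y, by rw [Category.id_comp]; exact hy⟩
    · rw [exactAt_iff' K (k + 1) (k + 2) (k + 3) (by simp) (by simp)]
      have h1 := hac (n + ((k + 1 : ℕ) : ℤ)) (by omega)
      rw [exactAt_iff' E (n + (k : ℤ)) (n + ((k + 1 : ℕ) : ℤ)) (n + ((k + 1 + 1 : ℕ) : ℤ))
        (by simp; omega) (by simp; omega)] at h1
      refine (ShortComplex.exact_iff_of_iso ?_).mp h1
      exact ShortComplex.isoMk (Iso.refl _) (Iso.refl _) (Iso.refl _)
        (by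
          show 𝟙 _ ≫ K₀.d k (k + 1) = _ ≫ 𝟙 _
          rw [hd k]
          exact (Category.id_comp _).trans (Category.comp_id _).symm)
        (by
          show 𝟙 _ ≫ K₀.d (k + 1) (k + 1 + 1) = _ ≫ 𝟙 _
          rw [hd (k + 1)]
          exact (Category.id_comp _).trans (Category.comp_id _).symm)
  · rintro (_ | k) hk
    · omega
    · exact hb _ (by omega)
  · rintro (_ | k) hk
    · omega
    · exact hE.2 _ (by omega)

/-- The property that cones of maps from strictly pseudo-coherent complexes have homology of finite type. -/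
def ConeFT (P : ObjectProperty C) (n : ℤ) (F : CochainComplex C ℤ) : Prop :=
  ∀ (E : CochainComplex C ℤ) (u : E ⟶ F) (j : ℤ), n ≤ j → PCoh.IsStrictPC P n E → ExactGE u (j + 1) →
    PCoh.IsOfFiniteType P ((mappingCone u).homology j)

lemma prop_cone (hsum : ∀ X Y : C, P X → P Y → P (X ⨯ Y)) {E F : CochainComplex C ℤ} (u : E ⟶ F) (i : ℤ)
    (hE : P (E.X (i + 1))) (hF : P (F.X i)) : P ((mappingCone u).X i) :=
  haveI := HomologicalComplex.HasHomotopyCofiber.hasBinaryBiproduct u i (i + 1) rfl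
  P.prop_of_iso (HomologicalComplex.homotopyCofiber.XIsoBiprod u i (i + 1) rfl).symm (prop_biprod hsum hE hF)

theorem isStrictPC_cone (hsum : ∀ X Y : C, P X → P Y → P (X ⨯ Y)) {n : ℤ} {E F : CochainComplex C ℤ} (u : E ⟶ F)
    (hE : PCoh.IsStrictPC P (n + 1) E) (hF : PCoh.IsStrictPC P n F) : PCoh.IsStrictPC P n (mappingCone u) := by
  obtain ⟨⟨b₁, hb₁⟩, hE⟩ := hE
  obtain ⟨⟨b₂, hb₂⟩, hF⟩ := hF
  exact ⟨⟨max b₁ b₂, fun i hi => (mappingCone.isZero_X_iff u i).mpr ⟨hb₁ _ (by omega), hb₂ _ (by omega)⟩⟩,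
    fun i hi => prop_cone hsum u i (hE _ (by omega)) (hF i hi)⟩

theorem coneFT_of_strict (hsum : ∀ X Y : C, P X → P Y → P (X ⨯ Y)) (hqs : PCoh.IsQuasiStableUnderKernels P)
    {n : ℤ} {F : CochainComplex C ℤ} (hF : PCoh.IsStrictPC P n F) : ConeFT P n F :=
  fun _ u j hj hE h => ft_homology hqs j _
    (isStrictPC_cone hsum u (isStrictPC_mono (by omega) hE) (isStrictPC_mono hj hF)) fun i hi => h i (by omega)

/-- One step of the construction. -/
theorem exists_step (hsum : ∀ X Y : C, P X → P Y → P (X ⨯ Y)) (hql : PCoh.IsQuasiLiftable P) (n : ℤ)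
    {E F : CochainComplex C ℤ} (u : E ⟶ F) (h : ExactGE u (n + 1))
    (hcone : PCoh.IsOfFiniteType P ((mappingCone u).homology n)) :
    ∃ (E' : CochainComplex C ℤ) (v : E ⟶ E') (u' : E' ⟶ F), v ≫ u' = u ∧ (∀ i, Mono (v.f i)) ∧
      (∀ i, i ≠ n → IsIso (v.f i)) ∧ P (cokernel (v.f n)) ∧ ExactGE u' n ∧ (∀ i, P (E.X i) → P (E'.X i)) := by
  classical
  set Cn := mappingCone u with hCn
  obtain ⟨F₀, π, hF₀, hπ⟩ := hcone
  obtain ⟨F', l, hF', hl⟩ := hql (pullback (Cn.homologyπ n) π) F₀ (pullback.snd _ _) inferInstance hF₀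
  let g : F' ⟶ Cn.cycles n := l ≫ pullback.fst _ _
  haveI hg : Epi (g ≫ Cn.homologyπ n) := by
    rw [show g ≫ Cn.homologyπ n = (l ≫ pullback.snd _ _) ≫ π by simp [g, pullback.condition]]
    haveI := hl
    exact @epi_comp _ _ _ _ _ (l ≫ pullback.snd _ _) hl π hπ
  let T := (HomologicalComplex.single C (ComplexShape.up ℤ) n).obj F'
  let j : T ⟶ Cn := HomologicalComplex.mkHomFromSingle (g ≫ Cn.iCycles n) (fun k _ => by simp)
  have hjn : (HomologicalComplex.singleObjCyclesSelfIso (ComplexShape.up ℤ) n F').inv ≫ cyclesMap j n = g := by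
    rw [← cancel_mono (Cn.iCycles n)]
    simp [j, T]
  haveI : Epi (homologyMap j n) := by
    have h1 : (HomologicalComplex.singleObjCyclesSelfIso (ComplexShape.up ℤ) n F').inv ≫ T.homologyπ n ≫
        homologyMap j n = g ≫ Cn.homologyπ n := by
      rw [homologyπ_naturality, reassoc_of% hjn]
    haveI : Epi (((HomologicalComplex.singleObjCyclesSelfIso (ComplexShape.up ℤ) n F').inv ≫ T.homologyπ n) ≫
        homologyMap j n) := by rw [Category.assoc, h1]; exact hg
    exact epi_of_epi ((HomologicalComplex.singleObjCyclesSelfIso (ComplexShape.up ℤ) n F').inv ≫ T.homologyπ n) _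
  have hTz : ∀ i, i ≠ n → IsZero (T.X i) := fun i hi => HomologicalComplex.isZero_single_obj_X _ _ _ _ hi
  refine ⟨Ext.cx u j, Ext.v u j, Ext.map u j, Ext.v_map u j, Ext.mono_v u j,
    fun i hi => Ext.isIso_v u j i (hTz i hi), ?_, ?_, fun i hi => ?_⟩
  · exact P.prop_of_iso ((Ext.cokerIso u j n).trans (HomologicalComplex.singleObjXSelf _ n F')).symm hF'
  · rw [Ext.exactGE_map_iff, exactGE_iff]
    refine ⟨fun i hi => ?_, inferInstance⟩
    exact ⟨⟨0, ((exactAt_iff_isZero_homology _ _).mp (exactAt_of_isZero (hTz i (by omega)))).eq_of_src _ _,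
      ((exactAt_iff_isZero_homology _ _).mp (h i (by omega))).eq_of_src _ _⟩⟩
  · by_cases hin : i = n
    · subst hin
      exact prop_biprod hsum hi (P.prop_of_iso (HomologicalComplex.singleObjXSelf _ i F').symm hF')
    · exact prop_biprod_zero_right hi (hTz i hin)

/-- Completion of an approximation to a quasi-isomorphism, changing only the degrees below `n`. -/
theorem exists_trunc (n : ℤ) {E F : CochainComplex C ℤ} (u : E ⟶ F) (h : ExactGE u n) :
    ∃ (E' : CochainComplex C ℤ) (v : E ⟶ E') (u' : E' ⟶ F), v ≫ u' = u ∧ QuasiIso u' ∧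
      (∀ i : ℤ, Mono (v.f i)) ∧ (∀ i : ℤ, n ≤ i → IsIso (v.f i)) := by
  haveI : (mappingCone u).IsLE (n - 1) := by
    rw [CochainComplex.isLE_iff]
    exact fun i hi => h i (by omega)
  let j := (mappingCone u).ιTruncLE (n - 1)
  refine ⟨Ext.cx u j, Ext.v u j, Ext.map u j, Ext.v_map u j, ?_, Ext.mono_v u j, fun i hi => Ext.isIso_v u j i ?_⟩
  · rw [quasiIso_iff_exactGE]
    intro m
    rw [Ext.exactGE_map_iff]
    exact (quasiIso_iff_exactGE j).mp inferInstance m
  · exact CochainComplex.isZero_of_isStrictlyLE _ (n - 1) i (by omega)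

/-- Iteration of the steps down to degree `n`. -/
theorem exists_down (hsum : ∀ X Y : C, P X → P Y → P (X ⨯ Y)) (hql : PCoh.IsQuasiLiftable P)
    {n : ℤ} {F : CochainComplex C ℤ} (hF : ConeFT P n F) :
    ∀ (k : ℕ) {E : CochainComplex C ℤ} (u : E ⟶ F), PCoh.IsStrictPC P n E → ExactGE u (n + k) →
      ∃ (E' : CochainComplex C ℤ) (v : E ⟶ E') (u' : E' ⟶ F), v ≫ u' = u ∧ PCoh.IsStrictPC P n E' ∧
        (∀ i, Mono (v.f i)) ∧ (∀ i, n + k ≤ i → IsIso (v.f i)) ∧ (∀ i, i < n → IsIso (v.f i)) ∧ ExactGE u' n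
  | 0, E, u, hE, h => ⟨E, 𝟙 E, u, Category.id_comp u, hE, fun _ => inferInstanceAs (Mono (𝟙 _)),
      fun _ _ => inferInstanceAs (IsIso (𝟙 _)), fun _ _ => inferInstanceAs (IsIso (𝟙 _)), by simpa using h⟩
  | k + 1, E, u, hE, h => by
    have h' : ExactGE u (n + k + 1) := by simpa [add_assoc] using h
    obtain ⟨E₁, v₁, u₁, h₁, hm₁, hi₁, -, hx₁, hP₁⟩ :=
      exists_step hsum hql (n + k) u h' (hF E u (n + k) (by omega) hE h')
    have hE₁ : PCoh.IsStrictPC P n E₁ := by
      obtain ⟨⟨b, hb⟩, hP⟩ := hE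
      refine ⟨⟨max b (n + k), fun i hi => ?_⟩, fun i hi => hP₁ i (hP i hi)⟩
      haveI := hi₁ i (by omega)
      exact (hb i (by omega)).of_iso (asIso (v₁.f i)).symm
    obtain ⟨E₂, v₂, u₂, h₂, hE₂, hm₂, hi₂, hl₂, hx₂⟩ := exists_down hsum hql hF k u₁ hE₁ hx₁
    refine ⟨E₂, v₁ ≫ v₂, u₂, by rw [Category.assoc, h₂, h₁], hE₂, fun i => ?_, fun i hi => ?_, fun i hi => ?_, hx₂⟩
    · haveI := hm₁ i; haveI := hm₂ i
      rw [HomologicalComplex.comp_f]; infer_instance
    · haveI := hi₁ i (by omega); haveI := hi₂ i (by omega)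
      rw [HomologicalComplex.comp_f]; infer_instance
    · haveI := hi₁ i (by omega); haveI := hl₂ i hi
      rw [HomologicalComplex.comp_f]; infer_instance

/-- The factorisation of a map from a strictly pseudo-coherent complex. -/
theorem exists_factor (hsum : ∀ X Y : C, P X → P Y → P (X ⨯ Y)) (hql : PCoh.IsQuasiLiftable P)
    {n : ℤ} {E F : CochainComplex C ℤ} (hF : ConeFT P n F) (i : ℤ) (u : E ⟶ F) (hE : PCoh.IsStrictPC P n E)
    (h : ExactGE u i) :
    ∃ (E' : CochainComplex C ℤ) (v : E ⟶ E') (u' : E' ⟶ F), v ≫ u' = u ∧ PCoh.IsStrictPC P n E' ∧ QuasiIso u' ∧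
      (∀ j : ℤ, Mono (v.f j)) ∧ (∀ j : ℤ, i ≤ j → IsIso (v.f j)) := by
  have key : ∀ {E : CochainComplex C ℤ} (u : E ⟶ F) (m : ℤ), m ≤ n → PCoh.IsStrictPC P n E → ExactGE u m →
      ∃ (E' : CochainComplex C ℤ) (v : E ⟶ E') (u' : E' ⟶ F), v ≫ u' = u ∧ PCoh.IsStrictPC P n E' ∧ QuasiIso u' ∧
        (∀ j : ℤ, Mono (v.f j)) ∧ (∀ j : ℤ, m ≤ j → IsIso (v.f j)) := by
    intro E u m hm hE h
    obtain ⟨E', v, u', h', hq, hmv, hiv⟩ := exists_trunc m u h
    obtain ⟨⟨b, hb⟩, hP⟩ := hE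
    refine ⟨E', v, u', h', ⟨⟨max b m, fun j hj => ?_⟩, fun j hj => ?_⟩, hq, hmv, hiv⟩
    · haveI := hiv j (by omega)
      exact (hb j (by omega)).of_iso (asIso (v.f j)).symm
    · haveI := hiv j (by omega)
      exact P.prop_of_iso (asIso (v.f j)) (hP j hj)
  rcases le_total i n with hi | hi
  · exact key u i hi hE h
  · obtain ⟨E₁, v₁, u₁, h₁, hE₁, hm₁, hi₁, -, hx₁⟩ :=
      exists_down hsum hql hF (i - n).toNat u hE (h.mono (by omega))
    obtain ⟨E₂, v₂, u₂, h₂, hE₂, hq₂, hm₂, hi₂⟩ := key u₁ n le_rfl hE₁ hx₁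
    refine ⟨E₂, v₁ ≫ v₂, u₂, by rw [Category.assoc, h₂, h₁], hE₂, hq₂, fun j => ?_, fun j hj => ?_⟩
    · haveI := hm₁ j; haveI := hm₂ j
      rw [HomologicalComplex.comp_f]; infer_instance
    · haveI := hi₁ j (by omega); haveI := hi₂ j (hi.trans hj)
      rw [HomologicalComplex.comp_f]; infer_instance

end Groth.Agent.PCohLib
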